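import Groth.Agent.Lib.ModSupp25.Restr
import Groth.Agent.Lib.SheafCoh.DerivedComp
import Mathlib.Algebra.Homology.ShortComplex.HomologicalComplex

/-! # Natural commutation of derived functors with exact functors, and restriction of local Ext -/

set_option autoImplicit false
universe u v v' v'' w w' w''

open CategoryTheory CategoryTheory.Limits Opposite

set_option maxHeartbeats 400000

namespace GrothLib.ModSupp25

section Post

variable {A : Type w} [Category.{v} A] [Abelian A] [HasInjectiveResolutions A]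
  {B : Type w'} [Category.{v'} B] [Abelian B] {D : Type w''} [Category.{v''} D] [Abelian D]
  (G : A ⥤ B) [G.Additive] (E : B ⥤ D) [E.Additive] [E.PreservesHomology]

omit [Abelian D] in
lemma square_paste4 {a₀ a₁ b₀ b₁ c₀ c₁ d₀ d₁ e₀ e₁ : D} {r₁ : a₀ ⟶ a₁} {α₀ : a₀ ⟶ b₀} {α₁ : a₁ ⟶ b₁}
    {p : b₀ ⟶ b₁} {β₀ : c₀ ≅ b₀} {β₁ : c₁ ≅ b₁} {q : c₀ ⟶ c₁} {μ₀ : c₀ ⟶ d₀} {μ₁ : c₁ ⟶ d₁} {r : d₀ ⟶ d₁}
    {γ₀ : e₀ ≅ d₀} {γ₁ : e₁ ≅ d₁} {r₂ : e₀ ⟶ e₁}
    (h₁ : r₁ ≫ α₁ = α₀ ≫ p) (h₂ : q ≫ β₁.hom = β₀.hom ≫ p) (h₃ : q ≫ μ₁ = μ₀ ≫ r)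
    (h₄ : r₂ ≫ γ₁.hom = γ₀.hom ≫ r) :
    r₁ ≫ α₁ ≫ β₁.inv ≫ μ₁ ≫ γ₁.inv = (α₀ ≫ β₀.inv ≫ μ₀ ≫ γ₀.inv) ≫ r₂ := by
  have hp : p ≫ β₁.inv = β₀.inv ≫ q := by rw [Iso.comp_inv_eq, Category.assoc, h₂, Iso.inv_hom_id_assoc]
  have hr : r ≫ γ₁.inv = γ₀.inv ≫ r₂ := by rw [Iso.comp_inv_eq, Category.assoc, h₄, Iso.inv_hom_id_assoc]
  rw [reassoc_of% h₁, reassoc_of% hp, reassoc_of% h₃, hr]
  simp

/-- `E ∘ R^nG = R^n(E ∘ G)` for exact `E`, naturally. -/
noncomputable def rightDerivedPostIso (n : ℕ) : G.rightDerived n ⋙ E ≅ (G ⋙ E).rightDerived n :=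
  NatIso.ofComponents
    (fun F => E.mapIso ((injectiveResolution F).isoRightDerivedObj G n) ≪≫
      (SheafCoh.mapHCHomologyIso E _ n).symm ≪≫
      (HomologicalComplex.homologyFunctor _ _ n).mapIso
        ((Functor.mapHomologicalComplexCompIso (Iso.refl (G ⋙ E)) (ComplexShape.up ℕ)).app
          (injectiveResolution F).cocomplex) ≪≫
      ((injectiveResolution F).isoRightDerivedObj (G ⋙ E) n).symm)
    (fun {F F'} f => by
      let I := injectiveResolution F
      let I' := injectiveResolution F'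
      let φ := InjectiveResolution.desc f I' I
      have hφ : I.ι.f 0 ≫ φ.f 0 = f ≫ I'.ι.f 0 := by
        rw [← HomologicalComplex.comp_f, InjectiveResolution.desc_commutes]
        simp
      let ψ := (G.mapHomologicalComplex (ComplexShape.up ℕ)).map φ
      have h₁ := congrArg E.map (InjectiveResolution.isoRightDerivedObj_hom_naturality f I I' φ hφ G n)
      simp only [Functor.map_comp] at h₁
      have h₂ : HomologicalComplex.homologyMap ((E.mapHomologicalComplex (ComplexShape.up ℕ)).map ψ) n ≫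
          (SheafCoh.mapHCHomologyIso E _ n).hom =
          (SheafCoh.mapHCHomologyIso E _ n).hom ≫ E.map (HomologicalComplex.homologyMap ψ n) :=
        ShortComplex.mapHomologyIso_hom_naturality
          ((HomologicalComplex.shortComplexFunctor B (ComplexShape.up ℕ) n).map ψ) E
      have h₃ := congrArg (fun t => (HomologicalComplex.homologyFunctor D (ComplexShape.up ℕ) n).map t)
        ((Functor.mapHomologicalComplexCompIso (Iso.refl (G ⋙ E)) (ComplexShape.up ℕ)).hom.naturality φ)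
      simp only [Functor.map_comp] at h₃
      have h₄ := InjectiveResolution.isoRightDerivedObj_hom_naturality f I I' φ hφ (G ⋙ E) n
      exact square_paste4 h₁ h₂ h₃ h₄)

end Post

variable {C : Type u} [SmallCategory C] {J : GrothendieckTopology C} (O : Sheaf J CommRingCat.{u}) (U : C)
  (M : ModSite.Mod O) [ModSite.HasSheafHom M] [ModSite.HasSheafHom ((ModSite.restr O U).obj M)]

/-- `ℋom(M, -)|_U = ℋom(M|_U, -|_U)`. -/
noncomputable def sheafHomRestrIso :
    ModSite.sheafHom M ⋙ ModSite.restr O U ≅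
      ModSite.restr O U ⋙ ModSite.sheafHom ((ModSite.restr O U).obj M) :=
  ((ModSite.extZeroAdj O U).comp (ModSite.sheafHomAdj M)).rightAdjointUniq
    (((ModSite.sheafHomAdj ((ModSite.restr O U).obj M)).comp (ModSite.extZeroAdj O U)).ofNatIsoLeft
      (NatIso.ofComponents (fun P => ModExtZero.projIso O U P M)
        (fun a => ModExtZero.projIso_natural_left a M)))

variable [HasInjectiveResolutions (ModSite.Mod O)] [HasInjectiveResolutions (ModSite.Mod (O.over U))] (q : ℕ)

/-- `ℰxt^q(M, -)|_U = ℰxt^q(M|_U, -|_U)`. -/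
noncomputable def extShRestrIso :
    ModSite.extSh M q ⋙ ModSite.restr O U ≅
      ModSite.restr O U ⋙ ModSite.extSh ((ModSite.restr O U).obj M) q :=
  haveI := preservesFiniteLimits_restr O U
  haveI := preservesFiniteColimits_restr O U
  haveI : (ModSite.restr O U).PreservesHomology := Functor.preservesHomologyOfExact _
  rightDerivedPostIso (ModSite.sheafHom M) (ModSite.restr O U) q ≪≫
    SheafCoh.rightDerivedCongr (sheafHomRestrIso O U M) q ≪≫
    (LocZ.rightDerivedPreExactIso (ModSite.restr O U)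
      (fun I hI => haveI := hI; injective_restr O U I) (ModSite.sheafHom ((ModSite.restr O U).obj M)) q).symm

end GrothLib.ModSupp25
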