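import Groth.Agent.Lib.ModSupp25.HomIso
import Groth.Agent.Lib.SheafCoh.ModUnit
import Mathlib.CategoryTheory.Sites.PreservesSheafification
import Mathlib.CategoryTheory.Sites.Adjunction

/-! # `O/O_U` is `O ⊗ ℤ/ℤ_U` -/

set_option autoImplicit false
universe u

open CategoryTheory CategoryTheory.Limits Opposite GrothLib.SheafCoh

set_option maxHeartbeats 400000

namespace GrothLib.ModSupp25

variable {C : Type u} [SmallCategory C] {J : GrothendieckTopology C} (O : Sheaf J CommRingCat.{u}) (U : C)

/-- The constant presheaf `ℤ`. -/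
abbrev zPre : Cᵒᵖ ⥤ AddCommGrpCat.{u} := (Functor.const Cᵒᵖ).obj (AddCommGrpCat.of (ULift.{u} ℤ))

/-- The constant sheaf `ℤ`. -/
noncomputable abbrev zSh (J : GrothendieckTopology C) : Sheaf J AddCommGrpCat.{u} :=
  (presheafToSheaf J AddCommGrpCat.{u}).obj zPre

/-- The unit section. -/
noncomputable def oneSec (V : Cᵒᵖ) : ((tS O).obj (ModSite.unit O)).obj.obj V :=
  (1 : (ModSite.ringSh O).obj.obj V)

/-- A generator of the free presheaf. -/
def genOf {C : Type u} [SmallCategory C] (U : C) (V : Cᵒᵖ) (f : unop V ⟶ U) : (CohFree.freePre U).obj V :=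
  FreeAbelianGroup.of f

/-- The unit section as a map from `ℤ`. -/
noncomputable def onePre : zPre ⟶ ((tS O).obj (ModSite.unit O)).obj where
  app V := AddCommGrpCat.ofHom
    { toFun := fun n => n.down • oneSec O V
      map_zero' := zero_smul ℤ _
      map_add' := fun m n => add_smul m.down n.down _ }
  naturality V W f := by
    ext n
    change n.down • oneSec O W = ((tS O).obj (ModSite.unit O)).obj.map f (n.down • oneSec O V)
    rw [map_zsmul]
    exact congrArg _ (map_one ((ModSite.ringSh O).obj.map f).hom).symm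

/-- The adjoint of the unit section. -/
noncomputable def oneSh : zSh J ⟶ (tS O).obj (ModSite.unit O) :=
  ((sheafificationAdjunction J AddCommGrpCat.{u}).homEquiv zPre _).symm (onePre O)

/-- `O ⊗ ℤ → O`. -/
noncomputable def wMap : (SiteDer.tensSh (ModSite.ringSh O)).obj (zSh J) ⟶ ModSite.unit O :=
  ((SiteDer.tensShAdj (ModSite.ringSh O)).homEquiv _ _).symm (oneSh O)

theorem homEquiv_wMap_comp {N : ModSite.Mod O} (φ : ModSite.unit O ⟶ N) :
    (sheafificationAdjunction J AddCommGrpCat.{u}).homEquiv zPre ((tS O).obj N)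
        ((SiteDer.tensShAdj (ModSite.ringSh O)).homEquiv (zSh J) N (wMap O ≫ φ)) =
      onePre O ≫ ((tS O).map φ).hom := by
  rw [Adjunction.homEquiv_naturality_right]
  erw [Adjunction.homEquiv_naturality_right]
  rw [wMap, Equiv.apply_symm_apply, oneSh, Equiv.apply_symm_apply]
  rfl

theorem bijective_onePre_comp (N : ModSite.Mod O) :
    Function.Bijective (fun φ : ModSite.unit O ⟶ N => onePre O ≫ ((tS O).map φ).hom) := by
  constructor
  · intro φ ψ h
    apply N.unitHomEquiv.injective
    refine PresheafOfModules.sections_ext _ _ fun V => ?_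
    have := congrArg (fun k : zPre ⟶ ((tS O).obj N).obj => k.app V (ULift.up (1 : ℤ))) h
    change ((tS O).map φ).hom.app V ((1 : ℤ) • oneSec O V) =
      ((tS O).map ψ).hom.app V ((1 : ℤ) • oneSec O V) at this
    rw [one_smul] at this
    exact this
  · intro ψ
    suffices H : ∀ φ : ModSite.unit O ⟶ N,
        (∀ V, ((tS O).map φ).hom.app V (oneSec O V) = ψ.app V (ULift.up (1 : ℤ))) →
          onePre O ≫ ((tS O).map φ).hom = ψ by
      refine ⟨N.unitHomEquiv.symm (PresheafOfModules.sectionsMk (fun V => ψ.app V (ULift.up (1 : ℤ)))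
        (fun V W f => (ConcreteCategory.congr_hom (ψ.naturality f) (ULift.up (1 : ℤ))).symm)), H _ fun V => ?_⟩
      exact congrArg (fun s : N.sections => s.val V)
        (N.unitHomEquiv.apply_symm_apply (PresheafOfModules.sectionsMk (fun V => ψ.app V (ULift.up (1 : ℤ)))
          (fun V W f => (ConcreteCategory.congr_hom (ψ.naturality f) (ULift.up (1 : ℤ))).symm)))
    intro φ hφ
    ext V n
    obtain ⟨n⟩ := n
    change ((tS O).map φ).hom.app V (n • oneSec O V) = ψ.app V (ULift.up n)
    rw [map_zsmul, hφ, ← map_zsmul]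
    exact congrArg _ (ULift.ext _ _ (by simp))

theorem isIso_wMap : IsIso (wMap O) := by
  have h : ∀ N : ModSite.Mod O, Function.Bijective (fun φ : ModSite.unit O ⟶ N => wMap O ≫ φ) := fun N => by
    let e := ((SiteDer.tensShAdj (ModSite.ringSh O)).homEquiv (zSh J) N).trans
      ((sheafificationAdjunction J AddCommGrpCat.{u}).homEquiv zPre ((tS O).obj N))
    have : (fun φ : ModSite.unit O ⟶ N => wMap O ≫ φ) =
        e.symm ∘ (fun φ => onePre O ≫ ((tS O).map φ).hom) := funext fun φ => by
      refine e.injective ?_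
      rw [Function.comp_apply, Equiv.apply_symm_apply]
      exact homEquiv_wMap_comp O φ
    rw [this]
    exact e.symm.bijective.comp (bijective_onePre_comp O N)
  obtain ⟨v, hv : wMap O ≫ v = 𝟙 _⟩ := (h _).2 (𝟙 _)
  refine ⟨v, hv, (h _).1 ?_⟩
  change wMap O ≫ v ≫ wMap O = wMap O ≫ 𝟙 _
  rw [reassoc_of% hv, Category.comp_id]

/-- The augmentation `ℤ[Hom(-, U)] → ℤ`. -/
noncomputable def augPre : CohFree.freePre U ⟶ zPre where
  app V := AddCommGrpCat.ofHom (FreeAbelianGroup.lift fun _ => ULift.up (1 : ℤ))
  naturality V W g := by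
    apply AddCommGrpCat.hom_ext
    apply FreeAbelianGroup.lift_ext
    intro a
    change FreeAbelianGroup.lift (fun _ => ULift.up (1 : ℤ))
        (FreeAbelianGroup.map ((yoneda.obj U).map g) (FreeAbelianGroup.of a)) =
      FreeAbelianGroup.lift (fun _ => ULift.up (1 : ℤ)) (FreeAbelianGroup.of a)
    simp

theorem torsionFree_coker_aug :
    SiteDer.torsionFree J ((presheafToSheaf J AddCommGrpCat.{u}).obj (cokernel (augPre U))) := by
  refine SiteDer.torsionFree_presheafToSheaf _ fun V n x hn hx => ?_
  have he : Function.Surjective ((cokernel.π (augPre U)).app V) :=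
    (AddCommGrpCat.epi_iff_surjective _).1 (inferInstanceAs (Epi (((evaluation _ _).obj V).map (cokernel.π (augPre U)))))
  obtain ⟨m, rfl⟩ := he x
  by_cases hne : Nonempty (unop V ⟶ U)
  · obtain ⟨f⟩ := hne
    have : m = (augPre U).app V (m.down • genOf U V f) := by
      rw [map_zsmul]
      change m = m.down • FreeAbelianGroup.lift (fun _ => ULift.up (1 : ℤ)) (FreeAbelianGroup.of f)
      rw [FreeAbelianGroup.lift_apply_of]
      exact ULift.ext _ _ (by simp)
    rw [this]
    exact ConcreteCategory.congr_hom (congrArg (fun k => k.app V) (cokernel.condition (augPre U))) _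
  · have hc := ((ShortComplex.exact_of_g_is_cokernel (ShortComplex.mk _ _ (cokernel.condition (augPre U)))
      (cokernelIsCokernel _)).map_of_epi_of_preservesCokernel ((evaluation _ _).obj V) inferInstance inferInstance)
    rw [← map_zsmul] at hx
    obtain ⟨z, hz⟩ := (ShortComplex.ab_exact_iff _).1 hc (n • m) hx
    have : IsEmpty (unop V ⟶ U) := not_nonempty_iff.1 hne
    have hz0 : (show FreeAbelianGroup (unop V ⟶ U) from z) = 0 :=
      FreeAbelianGroup.induction_on (show FreeAbelianGroup (unop V ⟶ U) from z) rfl (fun a => isEmptyElim a)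
        (fun a => isEmptyElim a) (fun a b ha hb => by rw [ha, hb, add_zero])
    have h0 : n • m = 0 := hz.symm.trans ((congrArg ((augPre U).app V) hz0).trans (map_zero _))
    have hm : n • m.down = 0 := congrArg ULift.down h0
    have : m = 0 := ULift.ext _ _ ((smul_eq_zero.1 hm).resolve_left hn)
    rw [this]
    exact map_zero _

/-- The sheaf of sets `h_U` associated to `U`, freely generated. -/
noncomputable def freeEps : CohCx.freeSheaf J U ⟶ (ToposFin.freeAb J).obj (ToposFin.eps J U) :=
  (presheafToSheaf J AddCommGrpCat.{u}).map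
    (Functor.whiskerRight (toSheafify J (yoneda.obj U)) AddCommGrpCat.free.{u})

theorem isIso_freeEps : IsIso (freeEps (J := J) U) := by
  have : J.PreservesSheafification AddCommGrpCat.free.{u} :=
    Sheaf.preservesSheafification_of_adjunction J AddCommGrpCat.adj.{u}
  have h := J.W_of_preservesSheafification AddCommGrpCat.free.{u} (toSheafify J (yoneda.obj U))
    (GrothendieckTopology.W_toSheafify J _)
  exact (J.W_iff _).1 h

noncomputable instance uniqueTop (V : Cᵒᵖ) : Unique ((⊤_ ToposFin.Sh J).obj.obj V) :=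
  Types.isTerminalEquivUnique _
    (IsTerminal.isTerminalObj (sheafToPresheaf J (Type u) ⋙ (evaluation _ _).obj V) _ terminalIsTerminal)

/-- The augmentation on the final sheaf of sets. -/
noncomputable def topPre : (⊤_ ToposFin.Sh J).obj ⋙ AddCommGrpCat.free.{u} ≅ zPre :=
  NatIso.ofComponents (fun V => freeUniqueIso _) (fun {V W} g => by
    apply AddCommGrpCat.hom_ext
    apply FreeAbelianGroup.lift_ext
    intro a
    apply ULift.ext
    change FreeAbelianGroup.lift (fun _ => (1 : ℤ))
        (FreeAbelianGroup.map ((⊤_ ToposFin.Sh J).obj.map g) (FreeAbelianGroup.of a)) =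
      FreeAbelianGroup.lift (fun _ => (1 : ℤ)) (FreeAbelianGroup.of a)
    simp)

/-- `ℤ[e] = ℤ`. -/
noncomputable def topIso : (ToposFin.freeAb J).obj (⊤_ ToposFin.Sh J) ≅ zSh J :=
  (presheafToSheaf J AddCommGrpCat.{u}).mapIso topPre

theorem freeEps_terminal :
    freeEps U ≫ (ToposFin.freeAb J).map (terminal.from (ToposFin.eps J U)) ≫ topIso.hom =
      (presheafToSheaf J AddCommGrpCat.{u}).map (augPre U) := by
  change (presheafToSheaf J AddCommGrpCat.{u}).map _ ≫ (presheafToSheaf J AddCommGrpCat.{u}).map _ ≫
    (presheafToSheaf J AddCommGrpCat.{u}).map _ = _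
  rw [← Functor.map_comp, ← Functor.map_comp]
  congr 1
  ext V : 2
  apply AddCommGrpCat.hom_ext
  apply FreeAbelianGroup.lift_ext
  intro a
  apply ULift.ext
  change FreeAbelianGroup.lift (fun _ => (1 : ℤ)) (FreeAbelianGroup.map ((terminal.from (ToposFin.eps J U)).hom.app V)
      (FreeAbelianGroup.map ((toSheafify J (yoneda.obj U)).app V) (FreeAbelianGroup.of a))) =
    (FreeAbelianGroup.lift (fun _ => ULift.up (1 : ℤ)) (FreeAbelianGroup.of a)).down
  simp

/-- `ℤ/ℤ_U` is the sheafified cokernel of the augmentation. -/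
theorem torsionFree_quotZ : SiteDer.torsionFree J (ToposFin.quotZ (ToposFin.eps J U)) := by
  let a := (ToposFin.freeAb J).map (terminal.from (ToposFin.eps J U))
  let P := presheafToSheaf J AddCommGrpCat.{u}
  have : Epi (freeEps (J := J) U) := have := isIso_freeEps (J := J) U; inferInstance
  let e : ToposFin.quotZ (ToposFin.eps J U) ≅ P.obj (cokernel (augPre U)) :=
    (cokernelEpiComp (freeEps U) a).symm ≪≫
      cokernel.mapIso (freeEps U ≫ a) (P.map (augPre U)) (Iso.refl _) topIso
        (by rw [Category.assoc, freeEps_terminal, Iso.refl_hom, Category.id_comp]) ≪≫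
      (PreservesCokernel.iso P (augPre U)).symm
  exact SiteDer.torsionFree_of_mono e.hom inferInstance (torsionFree_coker_aug U)

/-- `O ⊗ ℤ/ℤ_U = O/O_U`. -/
theorem nonempty_tens_quotZ_iso :
    Nonempty ((SiteDer.tensSh (ModSite.ringSh O)).obj (ToposFin.quotZ (ToposFin.eps J U)) ≅
      (ModSite.quotOn O U).obj (ModSite.unit O)) := by
  let T := SiteDer.tensSh (ModSite.ringSh O)
  let adj := SiteDer.tensShAdj (ModSite.ringSh O)
  let a := (ToposFin.freeAb J).map (terminal.from (ToposFin.eps J U))
  let q : zSh J ⟶ ToposFin.quotZ (ToposFin.eps J U) := topIso.inv ≫ cokernel.π a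
  have hw := isIso_wMap O
  have : Epi q := epi_comp _ _
  have : PreservesColimitsOfSize.{0, 0} T := adj.leftAdjoint_preservesColimits
  have : T.PreservesEpimorphisms := preservesEpimorphisms_of_preservesColimitsOfShape _
  let p : ModSite.unit O ⟶ T.obj (ToposFin.quotZ (ToposFin.eps J U)) := inv (wMap O) ≫ T.map q
  have hp : Epi p := epi_comp _ _
  have : Epi (freeEps (J := J) U) := have := isIso_freeEps (J := J) U; inferInstance
  have key : ∀ {N : ModSite.Mod O} (φ : ModSite.unit O ⟶ N),
      freeEps U ≫ a ≫ topIso.hom ≫ oneSh O ≫ (tS O).map φ = 0 ↔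
        (ModSite.extZeroAdj O U).counit.app (ModSite.unit O) ≫ φ = 0 := fun {N} φ => by
    rw [← ExtSupp.mem_homZ_iff]
    have hs : freeEps U ≫ a ≫ topIso.hom ≫ oneSh O ≫ (tS O).map φ =
        CohFree.ofSect J U ((tS O).obj N) (φ.val.app (op U) (oneSec O (op U))) := by
      have h1 : freeEps U ≫ a ≫ topIso.hom ≫ oneSh O =
          CohFree.ofSect J U ((tS O).obj (ModSite.unit O)) (oneSec O (op U)) := by
        refine ((reassoc_of% (freeEps_terminal (J := J) U)) _).trans ?_
        rw [oneSh, CohFree.ofSect, ← Adjunction.homEquiv_naturality_left_symm]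
        congr 1
        ext V : 2
        apply AddCommGrpCat.hom_ext
        apply FreeAbelianGroup.lift_ext
        intro f
        change (onePre O).app V (FreeAbelianGroup.lift (fun _ => ULift.up (1 : ℤ)) (FreeAbelianGroup.of f)) =
          FreeAbelianGroup.lift _ (FreeAbelianGroup.of f)
        rw [FreeAbelianGroup.lift_apply_of, FreeAbelianGroup.lift_apply_of]
        change (1 : ℤ) • oneSec O V = (ModSite.ringSh O).obj.map f.op 1
        rw [one_smul, map_one]
        rfl
      apply (CohFree.homEquivSect J U _).injective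
      rw [CohFree.homEquivSect_apply, CohFree.homEquivSect_apply, CohFree.evalGen_ofSect,
        ← Category.assoc topIso.hom, ← Category.assoc a, ← Category.assoc (freeEps U)]
      rw [h1]
      change ((tS O).map φ).hom.app (op U) (CohFree.evalGen J U _ (CohFree.ofSect J U _ _)) = _
      rw [CohFree.evalGen_ofSect]
      rfl
    rw [hs]
    change _ ↔ (ModSite.restr O U).map φ = 0
    constructor
    · intro h
      have h' := congrArg (CohFree.evalGen J U ((tS O).obj N)) h
      rw [CohFree.evalGen_ofSect, map_zero] at h'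
      apply ((ModSite.restr O U).obj N).unitHomEquiv.injective
      refine PresheafOfModules.sections_ext _ _ fun V => ?_
      change ((tS O).map φ).hom.app (op V.unop.left) (oneSec O (op V.unop.left)) = 0
      rw [show oneSec O (op V.unop.left) =
          ((tS O).obj (ModSite.unit O)).obj.map V.unop.hom.op (oneSec O (op U)) from
        (map_one ((ModSite.ringSh O).obj.map V.unop.hom.op).hom).symm]
      refine (ConcreteCategory.congr_hom (((tS O).map φ).hom.naturality V.unop.hom.op)
        (oneSec O (op U))).trans ?_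
      exact (congrArg (((tS O).obj N).obj.map V.unop.hom.op) h').trans (map_zero _)
    · intro h
      have h' : φ.val.app (op U) (oneSec O (op U)) = 0 :=
        congrArg (fun k : (ModSite.restr O U).obj (ModSite.unit O) ⟶ (ModSite.restr O U).obj N =>
          (k.val.app (op (Over.mk (𝟙 U)))).hom (oneSec O (op U))) h
      refine (congrArg (CohFree.ofSect J U ((tS O).obj N)) h').trans ?_
      apply (CohFree.homEquivSect J U _).injective
      rw [CohFree.homEquivSect_apply, CohFree.homEquivSect_apply, CohFree.evalGen_ofSect]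
      exact (map_zero (CohFree.evalGen J U ((tS O).obj N))).symm
  have hadj : adj.homEquiv (zSh J) _ (wMap O ≫ p) = q ≫ adj.unit.app _ := by
    rw [IsIso.hom_inv_id_assoc, adj.homEquiv_unit]
    exact (adj.unit.naturality q).symm
  have hp0 : (ModSite.extZeroAdj O U).counit.app (ModSite.unit O) ≫ p = 0 := by
    rw [← key]
    have e : oneSh O ≫ (tS O).map p = q ≫ adj.unit.app _ := by
      rw [← hadj, adj.homEquiv_naturality_right]
      congr 1
      exact ((adj.homEquiv _ _).apply_symm_apply _).symm
    rw [e]
    simp [q, a]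
  let π : ModSite.unit O ⟶ (ModSite.quotOn O U).obj (ModSite.unit O) :=
    cokernel.π ((ModSite.extZeroAdj O U).counit.app (ModSite.unit O))
  have hπ := (key π).2 (cokernel.condition _)
  have hπ' : a ≫ topIso.hom ≫ oneSh O ≫ (tS O).map π = 0 := (cancel_epi (freeEps U)).1 (hπ.trans comp_zero.symm)
  let g := (adj.homEquiv _ _).symm (cokernel.desc a _ hπ')
  have hg : p ≫ g = π := by
    change (inv (wMap O) ≫ T.map q) ≫ g = π
    rw [Category.assoc, IsIso.inv_comp_eq, ← adj.homEquiv_naturality_left_symm]
    apply (adj.homEquiv _ _).injective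
    rw [Equiv.apply_symm_apply, Category.assoc, cokernel.π_desc, Iso.inv_hom_id_assoc,
      adj.homEquiv_naturality_right]
    congr 1
    exact ((adj.homEquiv _ _).apply_symm_apply _).symm
  let g' : (ModSite.quotOn O U).obj (ModSite.unit O) ⟶ T.obj (ToposFin.quotZ (ToposFin.eps J U)) :=
    cokernel.desc _ p hp0
  have hg' : π ≫ g' = p := cokernel.π_desc _ _ _
  have : Epi π := inferInstanceAs (Epi (cokernel.π ((ModSite.extZeroAdj O U).counit.app (ModSite.unit O))))
  exact ⟨{ hom := g, inv := g'
           hom_inv_id := by rw [← cancel_epi p, reassoc_of% hg, hg', Category.comp_id]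
           inv_hom_id := by rw [← cancel_epi π, reassoc_of% hg', hg, Category.comp_id] }⟩

end GrothLib.ModSupp25
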