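import Groth.Agent.Lib.ModSupp25.QuotUnit
import Groth.Agent.Lib.SheafCoh.TensorInj
import Groth.Agent.Lib.GrothSS.Main
import Groth.Agent.Lib.GrothSS.HomExt
import Mathlib.CategoryTheory.Preadditive.Yoneda.Limits

/-! # Derived functors of Hom out of `O` and `O/O_U`, and acyclicity of internal homs -/

set_option autoImplicit false
universe u

open CategoryTheory CategoryTheory.Limits Opposite Abelian GrothLib.SheafCoh GrothLib.GrothSS

set_option maxHeartbeats 400000

namespace GrothLib.ModSupp25

theorem hasExt_mod {C : Type u} [SmallCategory C] {J : GrothendieckTopology C} (O : Sheaf J CommRingCat.{u}) :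
    HasExt.{u} (ModSite.Mod O) :=
  have := enoughInjectives_sheafOfModules (ModSite.ringSh O)
  hasExt_of_enoughInjectives _

/-- `Hom(Y, G -) = Hom(F Y, -)` for an additive adjunction. -/
noncomputable def adjHomFunIso {A : Type*} {B : Type*} [Category.{u} A] [Category.{u} B] [Preadditive A]
    [Preadditive B] {F : A ⥤ B} {G : B ⥤ A} [F.Additive] (adj : F ⊣ G) (Y : A) :
    G ⋙ preadditiveCoyoneda.obj (op Y) ≅ preadditiveCoyoneda.obj (op (F.obj Y)) :=
  NatIso.ofComponents (fun N => (adj.homAddEquiv Y N).symm.toAddCommGrpIso)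
    (fun {N N'} g => by
      ext φ
      exact adj.homEquiv_naturality_right_symm φ g)

variable {C : Type u} [SmallCategory C] {J : GrothendieckTopology C} {O : Sheaf J CommRingCat.{u}} (U : C)

section PushOver

variable [ModSite.HasPushOver O U]

theorem additive_quotOn : (ModSite.quotOn O U).Additive :=
  (quotSectAdj O U).left_adjoint_additive

/-- `Hom(Y, Γ_Z -) = Hom(Y/Y_U, -)`. -/
noncomputable def sectHomFunIso (Y : ModSite.Mod O) :
    ModSite.sectOn O U ⋙ preadditiveCoyoneda.obj (op Y) ≅
      preadditiveCoyoneda.obj (op ((ModSite.quotOn O U).obj Y)) :=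
  haveI := additive_quotOn (O := O) U
  adjHomFunIso (quotSectAdj O U) Y

/-- `Γ(Γ_Z ℋom(M, -)) = Hom(M/M_U, -)`. -/
noncomputable def gammaZHomIso (M : ModSite.Mod O) [ModSite.HasSheafHom M] :
    ExtSupp.gammaZHom U M ≅ preadditiveCoyoneda.obj (op ((ModSite.quotOn O U).obj M)) :=
  (Functor.associator _ _ _).symm ≪≫
    Functor.isoWhiskerRight (sectHomIso O U M) (preadditiveCoyoneda.obj (op (ModSite.unit O))) ≪≫
    Functor.associator _ _ _ ≪≫
    Functor.isoWhiskerLeft (ModSite.sectOn O U) (unitHomIso O M) ≪≫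
    sectHomFunIso U M

end PushOver

theorem nonempty_extUnit_iso [HasExt.{u} (ModSite.Mod O)] (F : ModSite.Mod O) (p : ℕ) :
    Nonempty (AddCommGrpCat.of (Ext.{u} (ModSite.unit O) F p) ≅ AddCommGrpCat.of (ModSite.HC O F p)) :=
  ⟨(nonempty_ext_unit_addEquiv (R := ModSite.ringSh O) F p).some.toAddCommGrpIso⟩

theorem nonempty_extQuotUnit_iso [HasExt.{u} (ModSite.Mod O)] (F : ModSite.Mod O) (p : ℕ) :
    Nonempty (AddCommGrpCat.of (Ext.{u} ((ModSite.quotOn O U).obj (ModSite.unit O)) F p) ≅
      AddCommGrpCat.of (ModSite.HZ U F p)) := by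
  obtain ⟨e⟩ := nonempty_tens_quotZ_iso O U
  obtain ⟨c⟩ := nonempty_ext_tens_addEquiv (ModSite.ringSh O) _ (torsionFree_quotZ (J := J) U) F p
  exact ⟨((extPrecompIso e F p).trans c).toAddCommGrpIso⟩

theorem preservesFiniteLimits_homFun (M : ModSite.Mod O) :
    PreservesFiniteLimits (preadditiveCoyoneda.obj (op M)) :=
  inferInstance

theorem preservesFiniteLimits_sectOn_homFun [ModSite.HasPushOver O U] (M : ModSite.Mod O) :
    PreservesFiniteLimits (ModSite.sectOn O U ⋙ preadditiveCoyoneda.obj (op M)) :=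
  haveI := preservesFiniteLimits_sectOn O U
  comp_preservesFiniteLimits _ _

variable [HasInjectiveResolutions (ModSite.Mod O)]

theorem nonempty_R_homUnit [HasExt.{u} (ModSite.Mod O)] (F : ModSite.Mod O) (p : ℕ) :
    Nonempty (((preadditiveCoyoneda.obj (op (ModSite.unit O))).rightDerived p).obj F ≅
      AddCommGrpCat.of (ModSite.HC O F p)) :=
  ⟨(rightDerivedHomFunIso (ModSite.unit O) p).app F ≪≫ (nonempty_extUnit_iso F p).some⟩

/-- Internal homs into injectives are acyclic for `Hom(O, -)`. -/
theorem isZero_R_homUnit_sheafHom (M I : ModSite.Mod O) [ModSite.HasSheafHom M] [Injective I] (p : ℕ) (hp : 0 < p) :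
    IsZero (((preadditiveCoyoneda.obj (op (ModSite.unit O))).rightDerived p).obj ((ModSite.sheafHom M).obj I)) := by
  have := hasExt_mod O
  obtain ⟨q, rfl⟩ : ∃ q, p = q + 1 := ⟨p - 1, by omega⟩
  have : Subsingleton (ModSite.HC O ((ModSite.sheafHom M).obj I) (q + 1)) :=
    subsingleton_ext_of_exactClass
      ((SiteDer.tensShAdj (ModSite.ringSh O)).comp (ModSite.sheafHomAdj M))
      (P := SiteDer.torsionFree J)
      { of_mono := fun f hf => SiteDer.torsionFree_of_mono f hf
        biprod := SiteDer.torsionFree_biprod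
        cover := SiteDer.exists_torsionFree_cover
        mono_map := mono_tensTensor_map O M }
      q _ (torsionFree_const (J := J)) I
  exact IsZero.of_iso (AddCommGrpCat.isZero_of_subsingleton _) (nonempty_R_homUnit _ _).some

section PushOver

variable [ModSite.HasPushOver O U]

theorem nonempty_R_sectUnit [HasExt.{u} (ModSite.Mod O)] (F : ModSite.Mod O) (p : ℕ) :
    Nonempty (((ModSite.sectOn O U ⋙ preadditiveCoyoneda.obj (op (ModSite.unit O))).rightDerived p).obj F ≅
      AddCommGrpCat.of (ModSite.HZ U F p)) :=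
  ⟨(rightDerivedExtFunctorIso _ _ (sectHomFunIso U (ModSite.unit O)) p).app F ≪≫
    (nonempty_extQuotUnit_iso U F p).some⟩

/-- Internal homs into injectives are acyclic for sections with supports. -/
theorem isZero_R_sectUnit_sheafHom (M I : ModSite.Mod O) [ModSite.HasSheafHom M] [Injective I] (p : ℕ) (hp : 0 < p) :
    IsZero (((ModSite.sectOn O U ⋙ preadditiveCoyoneda.obj (op (ModSite.unit O))).rightDerived p).obj
      ((ModSite.sheafHom M).obj I)) := by
  have := hasExt_mod O
  obtain ⟨q, rfl⟩ : ∃ q, p = q + 1 := ⟨p - 1, by omega⟩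
  have : Subsingleton (ModSite.HZ U ((ModSite.sheafHom M).obj I) (q + 1)) :=
    subsingleton_ext_of_exactClass
      ((SiteDer.tensShAdj (ModSite.ringSh O)).comp (ModSite.sheafHomAdj M))
      (P := SiteDer.torsionFree J)
      { of_mono := fun f hf => SiteDer.torsionFree_of_mono f hf
        biprod := SiteDer.torsionFree_biprod
        cover := SiteDer.exists_torsionFree_cover
        mono_map := mono_tensTensor_map O M }
      q _ (torsionFree_quotZ (J := J) U) I
  exact IsZero.of_iso (AddCommGrpCat.isZero_of_subsingleton _) (nonempty_R_sectUnit U _ _).some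

end PushOver

end GrothLib.ModSupp25
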