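import Groth.Agent.Lib.ModExtZero.KFlat
import Groth.Agent.Lib.SheafCoh.ModAcyclic
import Groth.Prelude.Def_ExtSupp
import Groth.Prelude.Def_FreeSh
import Mathlib.CategoryTheory.Abelian.Refinements
import Mathlib.CategoryTheory.Sites.EpiMono

/-! # Modules null on an object, sections with supports, exactness of `M ↦ M/M_U` -/

set_option autoImplicit false
universe u

open CategoryTheory CategoryTheory.Limits Opposite GrothLib.SheafCoh

set_option maxHeartbeats 400000

namespace GrothLib.ModSupp25

variable {C : Type u} [SmallCategory C] {J : GrothendieckTopology C} (O : Sheaf J CommRingCat.{u}) (U : C)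

/-- The underlying abelian sheaf functor. -/
noncomputable abbrev tS : ModSite.Mod O ⥤ Sheaf J AddCommGrpCat.{u} := SheafOfModules.toSheaf (ModSite.ringSh O)

/-- Sections, as an abelian group. -/
noncomputable abbrev sec (M : ModSite.Mod O) (V : C) : AddCommGrpCat.{u} := ((tS O).obj M).obj.obj (op V)

/-- Restriction of sections. -/
noncomputable abbrev res (M : ModSite.Mod O) {V V' : C} (g : V' ⟶ V) : sec O M V ⟶ sec O M V' :=
  ((tS O).obj M).obj.map g.op

/-- A morphism on sections. -/
noncomputable abbrev app {M N : ModSite.Mod O} (f : M ⟶ N) (V : C) : sec O M V ⟶ sec O N V :=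
  ((tS O).map f).hom.app (op V)

theorem res_app {M N : ModSite.Mod O} (f : M ⟶ N) {V V' : C} (g : V' ⟶ V) (x : sec O M V) :
    res O N g (app O f V x) = app O f V' (res O M g x) :=
  (ConcreteCategory.congr_hom (((tS O).map f).hom.naturality g.op) x).symm

theorem res_res (M : ModSite.Mod O) {V V' V'' : C} (g : V' ⟶ V) (h : V'' ⟶ V') (x : sec O M V) :
    res O M h (res O M g x) = res O M (h ≫ g) x :=
  (ConcreteCategory.congr_hom (((tS O).obj M).obj.map_comp g.op h.op) x).symm

theorem app_comp {M N P : ModSite.Mod O} (f : M ⟶ N) (g : N ⟶ P) (V : C) (x : sec O M V) :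
    app O (f ≫ g) V x = app O g V (app O f V x) := by
  simp [app]

section Sheaves

variable {O}

theorem eq_zero_of_cover' (F : Sheaf J AddCommGrpCat.{u}) {V : C} (x : F.obj.obj (op V)) (S : Sieve V)
    (hS : S ∈ J V) (h : ∀ ⦃V' : C⦄ (g : V' ⟶ V), S g → F.obj.map g.op x = 0) : x = 0 := by
  refine (((isSheaf_iff_isSheaf_of_type _ _).1
    (((Presheaf.isSheaf_iff_isSheaf_forget J _ (forget AddCommGrpCat.{u}))).1
      F.property)).isSeparated S hS).ext ?_
  intro V' g hg
  exact (h g hg).trans (map_zero (F.obj.map g.op).hom).symm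

theorem exists_cover_lift' {F G : Sheaf J AddCommGrpCat.{u}} (f : F ⟶ G) [Epi f] {V : C}
    (y : G.obj.obj (op V)) :
    ∃ S ∈ J V, ∀ ⦃V' : C⦄ (g : V' ⟶ V), S g → ∃ x, f.hom.app (op V') x = G.obj.map g.op y := by
  have := (Sheaf.isLocallySurjective_iff_epi' AddCommGrpCat.{u} f).2 ‹_›
  exact ⟨_, Presheaf.imageSieve_mem J f.hom y, fun V' g ⟨x, hx⟩ => ⟨x, hx⟩⟩

theorem exists_cover_of_exact' (S : ShortComplex (Sheaf J AddCommGrpCat.{u})) (hS : S.Exact) {V : C}
    (x : S.X₂.obj.obj (op V)) (hx : S.g.hom.app (op V) x = 0) :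
    ∃ T ∈ J V, ∀ ⦃V' : C⦄ (g : V' ⟶ V), T g →
      ∃ w, S.f.hom.app (op V') w = S.X₂.obj.map g.op x := by
  let a : CohCx.freeSheaf J V ⟶ S.X₂ := CohFree.ofSect J V _ x
  have ha : a ≫ S.g = 0 := by
    apply (CohFree.homEquivSect J V _).injective
    rw [map_zero, CohFree.homEquivSect_apply]
    refine Eq.trans ?_ hx
    exact congrArg (S.g.hom.app (op V)) (CohFree.evalGen_ofSect J V _ x)
  obtain ⟨A, q, hq, b, hb⟩ := (ShortComplex.exact_iff_exact_up_to_refinements _).1 hS a ha
  obtain ⟨T, hT, hT'⟩ := exists_cover_lift' q (CohFree.gen J V)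
  refine ⟨T, hT, fun V' g hg => ?_⟩
  obtain ⟨z, hz⟩ := hT' g hg
  refine ⟨b.hom.app (op V') z, ?_⟩
  refine ((ConcreteCategory.congr_hom (congrArg (fun k => k.hom.app (op V')) hb) z).symm).trans ?_
  change a.hom.app (op V') (q.hom.app (op V') z) = _
  rw [hz]
  refine (ConcreteCategory.congr_hom (a.hom.naturality g.op) (CohFree.gen J V)).trans ?_
  exact congrArg (S.X₂.obj.map g.op) (CohFree.evalGen_ofSect J V _ x)

end Sheaves

theorem eq_zero_of_cover (M : ModSite.Mod O) {V : C} (x : sec O M V) (S : Sieve V) (hS : S ∈ J V)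
    (h : ∀ ⦃V' : C⦄ (g : V' ⟶ V), S g → res O M g x = 0) : x = 0 :=
  eq_zero_of_cover' ((tS O).obj M) x S hS h

/-- Epimorphisms of modules are locally surjective. -/
theorem exists_cover_lift {M N : ModSite.Mod O} (f : M ⟶ N) [Epi f] {V : C} (y : sec O N V) :
    ∃ S ∈ J V, ∀ ⦃V' : C⦄ (g : V' ⟶ V), S g → ∃ x, app O f V' x = res O N g y :=
  have := SheafCoh.preservesEpimorphisms_toSheaf (ModSite.ringSh O)
  have : Epi ((tS O).map f) := Functor.map_epi _ _
  exists_cover_lift' ((tS O).map f) y

/-- A kernel element is locally in the image, for an exact sequence of modules. -/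
theorem exists_cover_of_exact (S : ShortComplex (ModSite.Mod O)) (hS : S.Exact) {V : C}
    (x : sec O S.X₂ V) (hx : app O S.g V x = 0) :
    ∃ T ∈ J V, ∀ ⦃V' : C⦄ (g : V' ⟶ V), T g → ∃ w, app O S.f V' w = res O S.X₂ g x :=
  have := SheafCoh.preservesHomology_toSheaf (ModSite.ringSh O)
  exists_cover_of_exact' (S.map (tS O)) (hS.map (tS O)) x hx

theorem isNullOn_iff (F : ModSite.Mod O) :
    ModSite.IsNullOn O U F ↔ ∀ ⦃V : C⦄ (_ : V ⟶ U) (x : sec O F V), x = 0 :=
  ExtSupp.isNullOn_iff O U F

/-- The image of a map out of an extension by zero lives on `U`. -/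
theorem exists_cover_image {G : ModSite.Mod (O.over U)} {M : ModSite.Mod O}
    (h : (ModSite.extZero O U).obj G ⟶ M) {V : C} (w : sec O ((ModSite.extZero O U).obj G) V) :
    ∃ S ∈ J V, ∀ ⦃V' : C⦄ (g : V' ⟶ V), S g →
      Nonempty (V' ⟶ U) ∨ res O M g (app O h V w) = 0 := by
  classical
  let e := (ModExtZero.extZeroIso O U).app G
  let E := (ModExtZero.extP O U).obj ((forgetP (O.over U)).obj G)
  let k : (shf O).obj E ⟶ M := e.hom ≫ h
  let z : sec O ((shf O).obj E) V := app O e.inv V w
  have hz : app O k V z = app O h V w := by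
    rw [← app_comp]
    simp [k]
  let η := (PresheafOfModules.toPresheaf _).map ((shfAdj O).unit.app E)
  have := isLocallySurjective_unit O E
  refine ⟨_, Presheaf.imageSieve_mem J η (U := op V) z, fun V' g hg => ?_⟩
  obtain ⟨t, ht⟩ := hg
  by_cases hne : Nonempty (V' ⟶ U)
  · exact Or.inl hne
  refine Or.inr ?_
  have : IsEmpty (V' ⟶ U) := not_nonempty_iff.1 hne
  obtain rfl : t = 0 := by
    change (show DirectSum _ (fun φ => ModExtZero.comp ((forgetP (O.over U)).obj G) (op V') φ) from t) = 0
    exact DFinsupp.ext fun φ => isEmptyElim (φ : V' ⟶ U)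
  rw [← hz, res_app]
  have h0 : res O ((shf O).obj E) g z = 0 := ht.symm.trans (map_zero (η.app (op V')).hom)
  rw [h0, map_zero]

/-- A morphism into a null module kills `M_U`. -/
theorem counit_comp_eq_zero {M N : ModSite.Mod O} (hN : ModSite.IsNullOn O U N) (f : M ⟶ N) :
    (ModSite.extZeroAdj O U).counit.app M ≫ f = 0 :=
  (ExtSupp.mem_homZ_iff U f).1 (hN.eq_of_tgt _ _)

theorem counit_comp_eq_zero' {M N : ModSite.Mod O} (hM : ModSite.IsNullOn O U M) (f : M ⟶ N) :
    (ModSite.extZeroAdj O U).counit.app M ≫ f = 0 :=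
  (ExtSupp.mem_homZ_iff U f).1 (hM.eq_of_src _ _)

theorem preservesMono_restr : (ModSite.restr O U).PreservesMonomorphisms :=
  have : PreservesLimitsOfSize.{0, 0} (ModSite.restr O U) :=
    (ModSite.extZeroAdj O U).rightAdjoint_preservesLimits
  preservesMonomorphisms_of_preservesLimitsOfShape _

theorem isNullOn_of_mono {M N : ModSite.Mod O} (f : M ⟶ N) [Mono f] (hN : ModSite.IsNullOn O U N) :
    ModSite.IsNullOn O U M :=
  have := preservesMono_restr O U
  IsZero.of_mono ((ModSite.restr O U).map f) hN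

/-- `M/M_U` is null on `U`. -/
theorem isNullOn_quotOn (M : ModSite.Mod O) : ModSite.IsNullOn O U ((ModSite.quotOn O U).obj M) := by
  rw [isNullOn_iff]
  intro V φ x
  let π : M ⟶ (ModSite.quotOn O U).obj M := cokernel.π ((ModSite.extZeroAdj O U).counit.app M)
  have : Epi π := inferInstanceAs (Epi (cokernel.π _))
  obtain ⟨S, hS, hx⟩ := exists_cover_lift O π x
  refine eq_zero_of_cover O _ x S hS fun V' g hg => ?_
  obtain ⟨y, hy⟩ := hx g hg
  refine hy.symm.trans ?_
  have h0 : (ModSite.restr O U).map π = 0 := (ExtSupp.mem_homZ_iff U π).2 (cokernel.condition _)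
  exact congrArg (fun k : (ModSite.restr O U).obj M ⟶ (ModSite.restr O U).obj ((ModSite.quotOn O U).obj M) =>
    (k.val.app (op (Over.mk (g ≫ φ)))).hom y) h0

/-- Elements dying in `M/M_U` live on `U`. -/
theorem exists_cover_of_quot_eq_zero (M : ModSite.Mod O) {V : C} (x : sec O M V)
    (hx : app O ((ModSite.quotOnπ O U).app M) V x = 0) :
    ∃ S ∈ J V, ∀ ⦃V' : C⦄ (g : V' ⟶ V), S g → Nonempty (V' ⟶ U) ∨ res O M g x = 0 := by
  obtain ⟨T, hT, hw⟩ := exists_cover_of_exact O (ExtSupp.openSeq U M) (ExtSupp.openSeq_exact U M).1 x hx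
  choose w hw' using hw
  choose S hS hSg using fun (V' : C) (g : V' ⟶ V) (hg : T g) =>
    exists_cover_image O U ((ModSite.extZeroAdj O U).counit.app M) (w g hg)
  refine ⟨Sieve.bind T.arrows fun V' g hg => S V' g hg, J.bind_covering hT fun V' g hg => hS V' g hg, ?_⟩
  rintro V'' _ ⟨V', h, g, hg, hh, rfl⟩
  rcases hSg V' g hg h hh with h' | h'
  · exact Or.inl h'
  · refine Or.inr ?_
    rw [← res_res]
    exact (congrArg (res O M h) (hw' g hg)).symm.trans h'

/-- `M ↦ M/M_U` preserves monomorphisms. -/
theorem preservesMono_quotOn : (ModSite.quotOn O U).PreservesMonomorphisms := ⟨fun {N M} f _ => by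
  apply Functor.mono_of_mono_map (tS O)
  apply Functor.mono_of_mono_map (sheafToPresheaf J AddCommGrpCat.{u})
  have : PreservesLimitsOfSize.{0, 0} (tS O) :=
    (SiteDer.tensShAdj (ModSite.ringSh O)).rightAdjoint_preservesLimits
  have : Mono ((tS O).map f) := Functor.map_mono _ _
  have hfinj : ∀ V : C, Function.Injective (app O f V) := fun V =>
    (AddCommGrpCat.mono_iff_injective _).1
      (inferInstanceAs (Mono (((sheafToPresheaf J AddCommGrpCat.{u}).map ((tS O).map f)).app (op V))))
  refine @NatTrans.mono_of_mono_app _ _ _ _ _ _ _ fun V => ?_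
  rw [AddCommGrpCat.mono_iff_injective, injective_iff_map_eq_zero]
  intro (x : sec O ((ModSite.quotOn O U).obj N) V.unop) (hx : app O ((ModSite.quotOn O U).map f) V.unop x = 0)
  have : Epi ((ModSite.quotOnπ O U).app N) := inferInstanceAs (Epi (cokernel.π _))
  obtain ⟨S, hS, hl⟩ := exists_cover_lift O ((ModSite.quotOnπ O U).app N) x
  refine eq_zero_of_cover O _ x S hS fun V' g hg => ?_
  obtain ⟨y, hy⟩ := hl g hg
  have h1 : app O ((ModSite.quotOnπ O U).app M) V' (app O f V' y) = 0 := by
    refine (app_comp O f _ V' y).symm.trans ?_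
    rw [show f ≫ (ModSite.quotOnπ O U).app M = (ModSite.quotOnπ O U).app N ≫ (ModSite.quotOn O U).map f from
      (ModSite.quotOnπ O U).naturality f, app_comp]
    rw [hy, ← res_app, hx, map_zero]
  obtain ⟨T, hT, hT'⟩ := exists_cover_of_quot_eq_zero O U M (app O f V' y) h1
  refine eq_zero_of_cover O _ _ T hT fun V'' h hh => ?_
  rcases hT' h hh with ⟨⟨φ⟩⟩ | h'
  · exact (isNullOn_iff O U _).1 (isNullOn_quotOn O U N) φ _
  · have hy0 : res O N h y = 0 := hfinj V'' (((res_app O f h y).symm.trans h').trans (map_zero _).symm)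
    rw [← hy, res_app]
    exact (congrArg (app O ((ModSite.quotOnπ O U).app N) V'') hy0).trans (map_zero _)⟩

section PushOver

variable [ModSite.HasPushOver O U]

/-- `Γ_Z M` is null on `U`. -/
theorem isNullOn_sectOn (M : ModSite.Mod O) : ModSite.IsNullOn O U ((ModSite.sectOn O U).obj M) := by
  let adj := ModSite.restrPushOverAdj O U
  have h1 : (ModSite.restr O U).map ((ModSite.sectOnι O U).app M) ≫ (ModSite.restr O U).map (adj.unit.app M) = 0 := by
    rw [← Functor.map_comp]
    exact (congrArg (ModSite.restr O U).map (kernel.condition (adj.unit.app M))).trans (Functor.map_zero _ _ _)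
  have h2 : (ModSite.restr O U).map ((ModSite.sectOnι O U).app M) = 0 := by
    have := congrArg (· ≫ adj.counit.app ((ModSite.restr O U).obj M)) h1
    simpa [adj.left_triangle_components M] using this
  have := preservesMono_restr O U
  have : Mono ((ModSite.sectOnι O U).app M) := inferInstanceAs (Mono (kernel.ι ((ModSite.restrPushOverAdj O U).unit.app M)))
  have : Mono ((ModSite.restr O U).map ((ModSite.sectOnι O U).app M)) := Functor.map_mono _ _
  exact IsZero.of_mono_eq_zero _ h2

theorem comp_unit_eq_zero {M N : ModSite.Mod O} (f : M ⟶ N) (hf : (ModSite.restr O U).map f = 0) :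
    f ≫ (ModSite.restrPushOverAdj O U).unit.app N = 0 := by
  refine ((ModSite.restrPushOverAdj O U).unit.naturality f).trans ?_
  change _ ≫ (ModSite.pushOver O U).map ((ModSite.restr O U).map f) = 0
  have : PreservesLimitsOfSize.{0, 0} (ModSite.pushOver O U) :=
    (ModSite.restrPushOverAdj O U).rightAdjoint_preservesLimits
  have : (ModSite.pushOver O U).PreservesZeroMorphisms :=
    Functor.preservesZeroMorphisms_of_preserves_terminal_object
  rw [hf, Functor.map_zero, comp_zero]

/-- A map killed by restriction factors through sections with supports. -/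
noncomputable def sectLift {M N : ModSite.Mod O} (f : M ⟶ N) (hf : (ModSite.restr O U).map f = 0) :
    M ⟶ (ModSite.sectOn O U).obj N :=
  kernel.lift _ f (comp_unit_eq_zero O U f hf)

theorem sectLift_ι {M N : ModSite.Mod O} (f : M ⟶ N) (hf : (ModSite.restr O U).map f = 0) :
    sectLift O U f hf ≫ (ModSite.sectOnι O U).app N = f :=
  kernel.lift_ι _ _ _

instance mono_sectOnι (N : ModSite.Mod O) : Mono ((ModSite.sectOnι O U).app N) :=
  inferInstanceAs (Mono (kernel.ι ((ModSite.restrPushOverAdj O U).unit.app N)))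

instance epi_quotOnπ (M : ModSite.Mod O) : Epi ((ModSite.quotOnπ O U).app M) :=
  inferInstanceAs (Epi (cokernel.π ((ModSite.extZeroAdj O U).counit.app M)))

/-- `M ↦ M/M_U` is left adjoint to `Γ_Z`. -/
noncomputable def quotSectAdj : ModSite.quotOn O U ⊣ ModSite.sectOn O U :=
  Adjunction.mkOfHomEquiv
    { homEquiv := fun M N =>
        { toFun := fun φ => sectLift O U ((ModSite.quotOnπ O U).app M ≫ φ)
            ((ExtSupp.mem_homZ_iff U _).2 (by
              exact (cokernel.condition_assoc _ φ).trans zero_comp))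
          invFun := fun g => cokernel.desc ((ModSite.extZeroAdj O U).counit.app M)
            (g ≫ (ModSite.sectOnι O U).app N)
            ((ExtSupp.mem_homZ_iff U _).1 (by
              change (ModSite.restr O U).map _ = 0
              rw [Functor.map_comp, (isNullOn_sectOn O U N).eq_of_tgt ((ModSite.restr O U).map g) 0, zero_comp]))
          left_inv := fun φ => coequalizer.hom_ext ((cokernel.π_desc _ _ _).trans (sectLift_ι O U _ _))
          right_inv := fun g => (cancel_mono ((ModSite.sectOnι O U).app N)).1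
            ((sectLift_ι O U _ _).trans (cokernel.π_desc _ _ _)) }
      homEquiv_naturality_left_symm := fun {M' M N} f g => by
        apply coequalizer.hom_ext
        refine (cokernel.π_desc _ _ _).trans ?_
        refine Eq.trans ?_ (Category.assoc _ _ _)
        change _ = (cokernel.π _ ≫ (ModSite.quotOn O U).map f) ≫ cokernel.desc _ _ _
        have e : cokernel.π ((ModSite.extZeroAdj O U).counit.app M') ≫ (ModSite.quotOn O U).map f =
            f ≫ cokernel.π ((ModSite.extZeroAdj O U).counit.app M) := cokernel.π_desc _ _ _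
        rw [e]
        exact (Category.assoc _ _ _).trans
          ((congrArg (f ≫ ·) (cokernel.π_desc _ _ _).symm).trans (Category.assoc _ _ _).symm)
      homEquiv_naturality_right := fun {M N N'} f g => by
        apply (cancel_mono ((ModSite.sectOnι O U).app N')).1
        simp only [Equiv.coe_fn_mk, Category.assoc, sectLift_ι]
        erw [(ModSite.sectOnι O U).naturality g, reassoc_of% (sectLift_ι O U)]
        rfl }

theorem preservesFiniteLimits_sectOn : PreservesFiniteLimits (ModSite.sectOn O U) :=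
  have : PreservesLimitsOfSize.{0, 0} (ModSite.sectOn O U) := (quotSectAdj O U).rightAdjoint_preservesLimits
  inferInstance

theorem injective_sectOn (I : ModSite.Mod O) [hI : Injective I] :
    Injective ((ModSite.sectOn O U).obj I) :=
  @Injective.injective_of_adjoint _ _ _ _ _ _ (preservesMono_quotOn O U) (quotSectAdj O U) I hI

end PushOver

end GrothLib.ModSupp25
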