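import Groth.Agent.Lib.ModSupp25.Null
import Groth.Agent.Lib.LocZ.Excision
import Mathlib.CategoryTheory.Abelian.Exact

/-! # Restriction of modules to a localised site is exact -/

set_option autoImplicit false
universe u

open CategoryTheory CategoryTheory.Limits Opposite GrothLib.SheafCoh

set_option maxHeartbeats 400000

namespace GrothLib.ModSupp25

variable {C : Type u} [SmallCategory C] {J : GrothendieckTopology C} (O : Sheaf J CommRingCat.{u}) (U : C)

theorem preservesEpi_restr : (ModSite.restr O U).PreservesEpimorphisms := ⟨fun {M N} f _ => by
  apply Functor.epi_of_epi_map (tS (O.over U))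
  rw [← Sheaf.isLocallySurjective_iff_epi' AddCommGrpCat.{u}]
  refine ⟨fun {Y} y => ?_⟩
  obtain ⟨S, hS, h⟩ := exists_cover_lift O f (V := Y.left) y
  rw [GrothendieckTopology.mem_over_iff]
  refine J.superset_covering ?_ hS
  intro V' g hg
  obtain ⟨x, hx⟩ := h g hg
  rw [Sieve.overEquiv_iff]
  exact ⟨x, hx⟩⟩

theorem preservesFiniteLimits_restr : PreservesFiniteLimits (ModSite.restr O U) :=
  have : PreservesLimitsOfSize.{0, 0} (ModSite.restr O U) :=
    (ModSite.extZeroAdj O U).rightAdjoint_preservesLimits
  PreservesLimits.preservesFiniteLimits _

theorem preservesFiniteColimits_restr : PreservesFiniteColimits (ModSite.restr O U) :=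
  have := preservesFiniteLimits_restr O U
  have := preservesEpi_restr O U
  have : (ModSite.restr O U).PreservesHomology := Functor.preservesHomology_of_preservesEpis_and_kernels _
  (ModSite.restr O U).preservesFiniteColimits_of_preservesHomology

theorem injective_restr (I : ModSite.Mod O) [Injective I] : Injective ((ModSite.restr O U).obj I) :=
  have := ModExtZero.preservesMono_extZero (O := O) (U := U)
  Injective.injective_of_adjoint (ModSite.extZeroAdj O U) I

end GrothLib.ModSupp25
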