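import Groth.Agent.Lib.ModSupp25.Derived
import Groth.Agent.Lib.FunSES25.Basic
import Groth.Agent.Lib.SheafCoh.ModGroth

/-! # Subterminal objects: extension by zero is fully faithful, the unit is epi on injectives -/

set_option autoImplicit false
universe u

open CategoryTheory CategoryTheory.Limits Opposite GrothLib.SheafCoh

set_option maxHeartbeats 400000

namespace GrothLib.ModSupp25

variable {C : Type u} [SmallCategory C] {J : GrothendieckTopology C} (O : Sheaf J CommRingCat.{u}) (U : C)

open scoped Classical in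
theorem isIso_extPAdj_unit (hU : ∀ V : C, Subsingleton (V ⟶ U)) : IsIso (ModExtZero.extPAdj O U).unit := by
  rw [NatTrans.isIso_iff_isIso_app]
  intro G
  let η := (ModExtZero.extPAdj O U).unit.app G
  have : IsIso ((PresheafOfModules.toPresheaf _).map η) := by
    rw [NatTrans.isIso_iff_isIso_app]
    intro P
    rw [ConcreteCategory.isIso_iff_bijective]
    let V : Cᵒᵖ := op P.unop.left
    have := hU P.unop.left
    let e : Unique (V.unop ⟶ U) := ⟨⟨P.unop.hom⟩, fun a => Subsingleton.elim _ _⟩
    change Function.Bijective (ModExtZero.incl G V P.unop.hom)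
    refine ⟨DirectSum.of_injective _, fun m => ⟨DFinsupp.toFun m P.unop.hom, ?_⟩⟩
    refine DFinsupp.ext fun φ => ?_
    obtain rfl : φ = P.unop.hom := Subsingleton.elim _ _
    exact DirectSum.of_eq_same _ _
  exact isIso_of_reflects_iso η (PresheafOfModules.toPresheaf _)

theorem isIso_extZero_unit (hU : ∀ V : C, Subsingleton (V ⟶ U)) : IsIso (ModSite.extZeroAdj O U).unit := by
  have := isIso_extPAdj_unit O U hU
  have := isIso_counit_shfAdj (O.over U)
  let i : ModSite.extZero O U ⋙ ModSite.restr O U ≅ 𝟭 _ :=
    Functor.isoWhiskerRight (ModExtZero.extZeroIso O U).symm (ModSite.restr O U) ≪≫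
      Functor.associator _ _ _ ≪≫
      Functor.isoWhiskerLeft (forgetP (O.over U)) (Functor.associator _ _ _ ≪≫
        Functor.isoWhiskerLeft (ModExtZero.extP O U) (ModExtZero.resShfIso O U).symm ≪≫
        (Functor.associator _ _ _).symm ≪≫
        Functor.isoWhiskerRight (asIso (ModExtZero.extPAdj O U).unit).symm (shf (O.over U)) ≪≫
        Functor.leftUnitor _) ≪≫
      asIso (shfAdj (O.over U)).counit
  have := ((ModSite.extZeroAdj O U).fullyFaithfulLOfCompIsoId i).full
  have := ((ModSite.extZeroAdj O U).fullyFaithfulLOfCompIsoId i).faithful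
  infer_instance

theorem isIso_restr_counit (hU : ∀ V : C, Subsingleton (V ⟶ U)) (M : ModSite.Mod O) :
    IsIso ((ModSite.restr O U).map ((ModSite.extZeroAdj O U).counit.app M)) := by
  have := isIso_extZero_unit O U hU
  have : IsIso (𝟙 ((ModSite.restr O U).obj M)) := IsIso.id _
  exact IsIso.of_isIso_fac_left ((ModSite.extZeroAdj O U).right_triangle_components M)

theorem mono_counit (hU : ∀ V : C, Subsingleton (V ⟶ U)) (M : ModSite.Mod O) :
    Mono ((ModSite.extZeroAdj O U).counit.app M) := by
  let c := (ModSite.extZeroAdj O U).counit.app M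
  refine Preadditive.mono_of_isZero_kernel c ?_
  have := isIso_restr_counit O U hU M
  have hK : ModSite.IsNullOn O U (kernel c) := by
    have := preservesFiniteLimits_restr O U
    exact (isZero_kernel_of_mono ((ModSite.restr O U).map c)).of_iso (PreservesKernel.iso (ModSite.restr O U) c)
  rw [IsZero.iff_id_eq_zero, ← cancel_mono (kernel.ι c), zero_comp, Category.id_comp]
  apply (tS O).map_injective
  rw [Functor.map_zero]
  ext V x
  change app O (kernel.ι c) V.unop x = 0
  obtain ⟨S, hS, h⟩ := exists_cover_image O U (𝟙 ((ModSite.extZero O U).obj ((ModSite.restr O U).obj M)))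
    (app O (kernel.ι c) V.unop x)
  refine eq_zero_of_cover O _ _ S hS fun V' g hg => ?_
  rcases h g hg with ⟨⟨φ⟩⟩ | h'
  · rw [res_app, (isNullOn_iff O U _).1 hK φ (res O (kernel c) g x)]
    exact map_zero _
  · simpa [app] using h'

variable [ModSite.HasPushOver O U]

theorem epi_unit_injective (hU : ∀ V : C, Subsingleton (V ⟶ U)) (I : ModSite.Mod O) [Injective I] :
    Epi ((ModSite.restrPushOverAdj O U).unit.app I) := by
  let a := ModSite.restrPushOverAdj O U
  let b := ModSite.extZeroAdj O U
  suffices key : ∀ (X : ModSite.Mod (O.over U)) (c : (ModSite.restr O U).obj ((ModSite.pushOver O U).obj X) ⟶ X)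
      (f : X ⟶ (ModSite.restr O U).obj I), ∃ s : (ModSite.pushOver O U).obj X ⟶ I,
        (ModSite.restr O U).map s = c ≫ f by
    obtain ⟨s, hs⟩ := key _ (a.counit.app ((ModSite.restr O U).obj I)) (𝟙 _)
    have hsplit : s ≫ a.unit.app I = 𝟙 _ := by
      apply (a.homEquiv _ _).symm.injective
      rw [a.homEquiv_naturality_left_symm, hs, Category.comp_id, a.homEquiv_counit, a.homEquiv_counit,
        a.left_triangle_components, Category.comp_id, CategoryTheory.Functor.map_id, Category.id_comp]
    have : IsSplitEpi (a.unit.app I) := IsSplitEpi.mk' ⟨s, hsplit⟩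
    exact inferInstanceAs (Epi (a.unit.app I))
  intro X c f
  obtain ⟨s, hs⟩ : ∃ s, b.counit.app ((ModSite.pushOver O U).obj X) ≫ s = (b.homEquiv _ I).symm (c ≫ f) :=
    ⟨@Injective.factorThru _ _ _ _ _ inferInstance ((b.homEquiv _ I).symm (c ≫ f))
      (b.counit.app ((ModSite.pushOver O U).obj X)) (mono_counit O U hU _), @Injective.comp_factorThru _ _ _ _ _ inferInstance _ _ (mono_counit O U hU _)⟩
  refine ⟨s, (b.homEquiv _ I).symm.injective ?_⟩
  exact ((b.homEquiv_counit _ _ _).trans (b.counit_naturality s)).trans hs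

theorem sectOnι_comp_unit :
    ModSite.sectOnι O U ≫ (ModSite.restrPushOverAdj O U).unit = 0 := by
  ext M : 2
  exact kernel.condition _

theorem shortExact_sect_injective (hU : ∀ V : C, Subsingleton (V ⟶ U)) (I : ModSite.Mod O) [Injective I] :
    (FunSES25.seqAt (ModSite.sectOnι O U) (ModSite.restrPushOverAdj O U).unit (sectOnι_comp_unit O U) I).ShortExact :=
  have := epi_unit_injective O U hU I
  { exact := ShortComplex.exact_of_f_is_kernel _ (kernelIsKernel ((ModSite.restrPushOverAdj O U).unit.app I))
    mono_f := inferInstanceAs (Mono (kernel.ι ((ModSite.restrPushOverAdj O U).unit.app I)))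
    epi_g := this }

end GrothLib.ModSupp25
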