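import Groth.Agent.Lib.ModSupp25.Null

/-! # Sections with supports of internal homs -/

set_option autoImplicit false
universe u

open CategoryTheory CategoryTheory.Limits Opposite MonoidalCategory GrothLib.SheafCoh

set_option maxHeartbeats 400000

namespace GrothLib.ModSupp25

variable {C : Type u} [SmallCategory C] {J : GrothendieckTopology C} (O : Sheaf J CommRingCat.{u}) (U : C)

/-- A null module tensor anything is null. -/
theorem isNullOn_tensor {Q : ModSite.Mod O} (hQ : ModSite.IsNullOn O U Q) (M : ModSite.Mod O) :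
    ModSite.IsNullOn O U (((ModSite.tensorBi O).obj Q).obj M) :=
  have := ModFlat.additive_T ((ModSite.restr O U).obj M)
  ((ModFlat.T ((ModSite.restr O U).obj M)).map_isZero hQ).of_iso (ModExtZero.restrTensorIso Q M)

/-- Anything tensor a null module is null. -/
theorem isNullOn_tensor' (Q : ModSite.Mod O) {M : ModSite.Mod O} (hM : ModSite.IsNullOn O U M) :
    ModSite.IsNullOn O U (((ModSite.tensorBi O).obj Q).obj M) :=
  IsZero.of_iso (isNullOn_tensor O U hM Q)
    ((ModSite.restr O U).mapIso (((ModFlat.tensorSymm O).app Q).app M))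

/-- Internal homs into a null module are null. -/
theorem isNullOn_sheafHom (M : ModSite.Mod O) [ModSite.HasSheafHom M] {N : ModSite.Mod O}
    (hN : ModSite.IsNullOn O U N) : ModSite.IsNullOn O U ((ModSite.sheafHom M).obj N) := by
  change IsZero ((ModSite.restr O U).obj ((ModSite.sheafHom M).obj N))
  rw [IsZero.iff_id_eq_zero]
  let G := (ModSite.restr O U).obj ((ModSite.sheafHom M).obj N)
  have hs : Subsingleton (G ⟶ (ModSite.restr O U).obj ((ModSite.sheafHom M).obj N)) := by
    have : Subsingleton (((ModSite.tensorBi (O.over U)).obj G).obj ((ModSite.restr O U).obj M) ⟶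
        (ModSite.restr O U).obj N) := ⟨fun a b => hN.eq_of_tgt a b⟩
    exact (((ModSite.extZeroAdj O U).homEquiv G _).symm.trans
      (((ModSite.sheafHomAdj M).homEquiv _ N).symm.trans
        (((ModExtZero.projIso O U G M).symm.homCongr (Iso.refl N)).trans
          ((ModSite.extZeroAdj O U).homEquiv _ N)))).subsingleton
  exact hs.elim _ _

section PushOver

variable [ModSite.HasPushOver O U] (M : ModSite.Mod O)

theorem restr_map_comp_sectι {X N : ModSite.Mod O} (g : X ⟶ (ModSite.sectOn O U).obj N) :
    (ModSite.restr O U).map (g ≫ (ModSite.sectOnι O U).app N) = 0 := by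
  rw [Functor.map_comp, (isNullOn_sectOn O U N).eq_of_tgt ((ModSite.restr O U).map g) 0, zero_comp]

variable [ModSite.HasSheafHom M]

/-- `ℋom(M, Γ_Z N) → Γ_Z ℋom(M, N)`. -/
noncomputable def toSectHom (N : ModSite.Mod O) :
    (ModSite.sheafHom M).obj ((ModSite.sectOn O U).obj N) ⟶
      (ModSite.sectOn O U).obj ((ModSite.sheafHom M).obj N) :=
  sectLift O U ((ModSite.sheafHom M).map ((ModSite.sectOnι O U).app N))
    ((isNullOn_sheafHom O U M (isNullOn_sectOn O U N)).eq_of_src _ _)

@[reassoc]
theorem toSectHom_ι (N : ModSite.Mod O) :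
    toSectHom O U M N ≫ (ModSite.sectOnι O U).app ((ModSite.sheafHom M).obj N) =
      (ModSite.sheafHom M).map ((ModSite.sectOnι O U).app N) :=
  sectLift_ι O U _ _

theorem isIso_toSectHom (N : ModSite.Mod O) : IsIso (toSectHom O U M N) := by
  let adj := ModSite.sheafHomAdj M
  let ι' := (ModSite.sectOnι O U).app ((ModSite.sheafHom M).obj N)
  have : (ModSite.sheafHom M).PreservesMonomorphisms :=
    have : PreservesLimitsOfSize.{0, 0} (ModSite.sheafHom M) := adj.rightAdjoint_preservesLimits
    preservesMonomorphisms_of_preservesLimitsOfShape _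
  have : Mono (toSectHom O U M N ≫ ι') := by
    rw [toSectHom_ι]
    exact Functor.map_mono _ _
  have : Mono (toSectHom O U M N) := mono_of_mono _ ι'
  let φ := (adj.homEquiv _ N).symm ι'
  have hφ : (ModSite.restr O U).map φ = 0 :=
    (isNullOn_tensor O U (isNullOn_sectOn O U ((ModSite.sheafHom M).obj N)) M).eq_of_src _ _
  let b := adj.homEquiv _ _ (sectLift O U φ hφ)
  have hb : b ≫ toSectHom O U M N = 𝟙 _ := by
    apply (cancel_mono ι').1
    rw [Category.assoc, Category.id_comp, toSectHom_ι]
    refine (adj.homEquiv_naturality_right _ _).symm.trans ?_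
    rw [sectLift_ι]
    exact (adj.homEquiv _ N).apply_symm_apply ι'
  have : IsSplitEpi (toSectHom O U M N) := IsSplitEpi.mk' ⟨b, hb⟩
  exact isIso_of_mono_of_isSplitEpi _

/-- `Γ_Z ℋom(M, -) = ℋom(M, Γ_Z -)`. -/
noncomputable def sectHomIso :
    ModSite.sheafHom M ⋙ ModSite.sectOn O U ≅ ModSite.sectOn O U ⋙ ModSite.sheafHom M :=
  (NatIso.ofComponents
    (fun N => haveI := isIso_toSectHom O U M N; asIso (toSectHom O U M N))
    (fun {N N'} g => by
      apply (cancel_mono ((ModSite.sectOnι O U).app ((ModSite.sheafHom M).obj N'))).1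
      simp only [Functor.comp_map, asIso_hom, Category.assoc, toSectHom_ι]
      erw [(ModSite.sectOnι O U).naturality ((ModSite.sheafHom M).map g)]
      rw [toSectHom_ι_assoc]
      simp only [Functor.id_map, ← Functor.map_comp]
      exact congrArg (ModSite.sheafHom M).map ((ModSite.sectOnι O U).naturality g))).symm

end PushOver

/-- `P ⊗ M → P ⊗ M/M_U` factors through `(P ⊗ M)/(P ⊗ M)_U`. -/
noncomputable def quotTensorMap (M P : ModSite.Mod O) :
    (ModSite.quotOn O U).obj (((ModSite.tensorBi O).obj P).obj M) ⟶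
      ((ModSite.tensorBi O).obj P).obj ((ModSite.quotOn O U).obj M) :=
  cokernel.desc _ (((ModSite.tensorBi O).obj P).map ((ModSite.quotOnπ O U).app M))
    (counit_comp_eq_zero O U (isNullOn_tensor' O U P (isNullOn_quotOn O U M)) _)

@[reassoc]
theorem π_quotTensorMap (M P : ModSite.Mod O) :
    (ModSite.quotOnπ O U).app (((ModSite.tensorBi O).obj P).obj M) ≫ quotTensorMap O U M P =
      ((ModSite.tensorBi O).obj P).map ((ModSite.quotOnπ O U).app M) :=
  cokernel.π_desc _ _ _

theorem isIso_quotTensorMap (M P : ModSite.Mod O) : IsIso (quotTensorMap O U M P) := by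
  let L := (ModSite.tensorBi O).obj P
  let π : M ⟶ (ModSite.quotOn O U).obj M := (ModSite.quotOnπ O U).app M
  let π' : L.obj M ⟶ (ModSite.quotOn O U).obj (L.obj M) := (ModSite.quotOnπ O U).app (L.obj M)
  have := ModFlat.preservesColimits_tensorLeft P
  have : Epi π := inferInstanceAs (Epi (cokernel.π ((ModSite.extZeroAdj O U).counit.app M)))
  have : Epi π' := inferInstanceAs (Epi (cokernel.π ((ModSite.extZeroAdj O U).counit.app (L.obj M))))
  have : Epi (L.map π) := by
    have : PreservesColimitsOfSize.{0, 0} L := preservesSmallestColimits_of_preservesColimits _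
    have : L.PreservesEpimorphisms := preservesEpimorphisms_of_preservesColimitsOfShape _
    infer_instance
  have : ModSite.HasSheafHom P := ModFlat.isLeftAdjoint_T P
  let e : ModFlat.T P ≅ L := ((ModFlat.tensorSymm O).app P).symm
  let adj := (ModSite.sheafHomAdj P).ofNatIsoLeft e
  obtain ⟨g, hg⟩ : ∃ g : (ModSite.quotOn O U).obj M ⟶ (ModSite.sheafHom P).obj ((ModSite.quotOn O U).obj (L.obj M)),
      π ≫ g = adj.homEquiv _ _ π' :=
    ⟨cokernel.desc _ _ (counit_comp_eq_zero O U (isNullOn_sheafHom O U P (isNullOn_quotOn O U _)) _),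
      cokernel.π_desc _ _ _⟩
  let inv' := (adj.homEquiv _ _).symm g
  have h1 : L.map π ≫ inv' = π' := by
    rw [← adj.homEquiv_naturality_left_symm, hg, Equiv.symm_apply_apply]
  refine ⟨inv', ?_, ?_⟩
  · apply (cancel_epi π').1
    rw [reassoc_of% (π_quotTensorMap O U M P), h1, Category.comp_id]
  · apply (cancel_epi (L.map π)).1
    rw [reassoc_of% h1, Category.comp_id]
    exact π_quotTensorMap O U M P

/-- `- ⊗ M/M_U = (- ⊗ M)/(- ⊗ M)_U`. -/
noncomputable def quotTensorIso (M : ModSite.Mod O) :
    ModFlat.T M ⋙ ModSite.quotOn O U ≅ ModFlat.T ((ModSite.quotOn O U).obj M) :=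
  NatIso.ofComponents (fun P => haveI := isIso_quotTensorMap O U M P; asIso (quotTensorMap O U M P))
    (fun {P P'} g => by
      have : Epi ((ModSite.quotOnπ O U).app (((ModSite.tensorBi O).obj P).obj M)) :=
        inferInstanceAs (Epi (cokernel.π ((ModSite.extZeroAdj O U).counit.app (((ModSite.tensorBi O).obj P).obj M))))
      apply (cancel_epi ((ModSite.quotOnπ O U).app (((ModSite.tensorBi O).obj P).obj M))).1
      simp only [Functor.comp_map, asIso_hom]
      rw [π_quotTensorMap_assoc]
      refine ((reassoc_of% ((ModSite.quotOnπ O U).naturality (((ModSite.tensorBi O).map g).app M)).symm) _).trans ?_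
      erw [π_quotTensorMap]
      exact (((ModSite.tensorBi O).map g).naturality ((ModSite.quotOnπ O U).app M)).symm)

variable [ModSite.HasPushOver O U]

/-- `Γ_Z ℋom(M, -) = ℋom(M/M_U, -)`. -/
noncomputable def sectHomQuotIso (M : ModSite.Mod O) [ModSite.HasSheafHom M]
    [ModSite.HasSheafHom ((ModSite.quotOn O U).obj M)] :
    ModSite.sheafHom M ⋙ ModSite.sectOn O U ≅ ModSite.sheafHom ((ModSite.quotOn O U).obj M) :=
  sectHomIso O U M ≪≫
    (((ModSite.sheafHomAdj M).comp (quotSectAdj O U)).ofNatIsoLeft (quotTensorIso O U M)).rightAdjointUniq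
      (ModSite.sheafHomAdj ((ModSite.quotOn O U).obj M))

/-- the unit law -/
noncomputable def tensorUnitO (M : ModSite.Mod O) :
    ((ModSite.tensorBi O).obj (ModSite.unit O)).obj M ≅ M :=
  haveI := isIso_counit_shfAdj O
  (shf O).mapIso (λ_ ((forgetP O).obj M)) ≪≫ (asIso (shfAdj O).counit).app M

/-- `Hom(O, ℋom(M, -)) = Hom(M, -)`. -/
noncomputable def unitHomIso (M : ModSite.Mod O) [ModSite.HasSheafHom M] :
    ModSite.sheafHom M ⋙ preadditiveCoyoneda.obj (op (ModSite.unit O)) ≅ preadditiveCoyoneda.obj (op M) :=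
  haveI := ModFlat.additive_T M
  NatIso.ofComponents
    (fun N => ((((ModSite.sheafHomAdj M).homAddEquiv (ModSite.unit O) N).symm).trans
      (AddEquiv.mk' ((tensorUnitO O M).homCongr (Iso.refl N)) (fun a b => by
        simp [Iso.homCongr]))).toAddCommGrpIso)
    (fun {N N'} g => by
      ext φ
      change (tensorUnitO O M).inv ≫ ((ModSite.sheafHomAdj M).homEquiv (ModSite.unit O) N').symm
          (φ ≫ (ModSite.sheafHom M).map g) =
        ((tensorUnitO O M).inv ≫ ((ModSite.sheafHomAdj M).homEquiv (ModSite.unit O) N).symm φ) ≫ g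
      erw [Adjunction.homEquiv_naturality_right_symm]
      exact (Category.assoc _ _ _).symm)

end GrothLib.ModSupp25
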