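import Groth.Agent.Lib.ModSupp25.SS
import Groth.Agent.Lib.ModSupp25.Restr
import Groth.Agent.Lib.CechFree.Acyclic
import Groth.Agent.Lib.Cohom.DerivedClass

/-! # Flasque modules are acyclic for sections with supports -/

set_option autoImplicit false
universe u

open CategoryTheory CategoryTheory.Limits Opposite Abelian GrothLib.SheafCoh

set_option maxHeartbeats 400000

namespace GrothLib.ModSupp25

variable {C : Type u} [SmallCategory C] {J : GrothendieckTopology C}

/-- A compatible family on a sieve extends, for a totally acyclic sheaf. -/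
theorem exists_extension (F : Sheaf J AddCommGrpCat.{u}) (hF : CohCx.IsTotallyAcyclic F) {V : C} (S : Sieve V)
    (τ : S.functor ⟶ F.obj ⋙ forget AddCommGrpCat.{u}) :
    ∃ m : F.obj.obj (op V), ∀ ⦃V' : C⦄ (g : V' ⟶ V) (hg : S g), F.obj.map g.op m = τ.app (op V') ⟨g, hg⟩ := by
  let a := sheafificationAdjunction J (Type u)
  let b := Sheaf.adjunction J AddCommGrpCat.adj.{u}
  let G := (sheafCompose J (forget AddCommGrpCat.{u})).obj F
  let τ' : (presheafToSheaf J (Type u)).obj S.functor ⟶ G := (a.homEquiv _ G).symm τ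
  let ι := (presheafToSheaf J (Type u)).map S.functorInclusion
  have : Mono ι := Functor.map_mono _ _
  obtain ⟨χ, hχ⟩ := CechFree.surjective_HK0_of_totallyAcyclic F hF ι ((b.homEquiv _ F).symm τ')
  have h1 : ι ≫ b.homEquiv _ F χ = τ' := by
    refine (b.homEquiv_naturality_left ι χ).symm.trans ?_
    exact (congrArg (b.homEquiv _ F) hχ).trans ((b.homEquiv _ F).apply_symm_apply τ')
  let χ' : (presheafToSheaf J (Type u)).obj (yoneda.obj V) ⟶ G :=
    b.homEquiv ((presheafToSheaf J (Type u)).obj (yoneda.obj V)) F χ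
  replace h1 : ι ≫ χ' = τ' := h1
  let κ : yoneda.obj V ⟶ G.obj := a.homEquiv (yoneda.obj V) G χ'
  have h2 : S.functorInclusion ≫ κ = τ := by
    have e := a.homEquiv_naturality_left S.functorInclusion χ'
    rw [h1] at e
    exact e.symm.trans ((a.homEquiv S.functor G).apply_symm_apply τ)
  clear_value κ
  refine ⟨κ.app (op V) (𝟙 V), fun V' g hg => ?_⟩
  have e := ConcreteCategory.congr_hom (κ.naturality g.op) (𝟙 V)
  refine e.symm.trans ?_
  rw [← h2]
  exact congrArg (κ.app (op V')) (Category.comp_id g)

variable (O : Sheaf J CommRingCat.{u}) (U : C)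

/-- The sieve of arrows to `V` from objects mapping to `U`. -/
def liveSieve (V : C) : Sieve V where
  arrows V' _ := Nonempty (V' ⟶ U)
  downward_closed := fun ⟨φ⟩ g => ⟨g ≫ φ⟩

variable [ModSite.HasPushOver O U]

/-- A section vanishing over `U` is a section with supports. -/
theorem exists_sect_of_vanish (I : ModSite.Mod O) {V : C} (z : sec O I V)
    (hz : ∀ ⦃V' : C⦄ (g : V' ⟶ V), (V' ⟶ U) → res O I g z = 0) :
    ∃ y, app O ((ModSite.sectOnι O U).app I) V y = z := by
  let h0 : ModFlat.freeP (O := O) V ⟶ (forgetP O).obj I :=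
    PresheafOfModules.freeObjDesc { app := fun W => ↾fun g => res O I g z
                                    naturality := fun W W' f => by
                                      ext g
                                      exact (res_res O I g f.unop z).symm }
  have hz0 : (ModExtZero.resP O U).map h0 = 0 := by
    refine PresheafOfModules.hom_ext fun W => ModuleCat.free_hom_ext fun g => ?_
    refine (ModuleCat.freeDesc_apply _ _).trans ?_
    exact hz g W.unop.hom
  let h : (shf O).obj (ModFlat.freeP (O := O) V) ⟶ I := ((shfAdj O).homEquiv _ _).symm h0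
  have hh : (ModSite.restr O U).map h = 0 := by
    have := preservesFiniteLimits_restr O U
    have e := (ModExtZero.resShfIso O U).hom.naturality h0
    have : Functor.IsLeftAdjoint (shf (O.over U)) := (shfAdj (O.over U)).isLeftAdjoint
    have : (shf (O.over U)).PreservesZeroMorphisms := Functor.preservesZeroMorphisms_of_isLeftAdjoint _
    have e0 : (ModSite.restr O U).map ((shf O).map h0) = 0 := by
      rw [← cancel_epi ((ModExtZero.resShfIso O U).hom.app _), comp_zero]
      refine e.symm.trans ?_
      change (shf (O.over U)).map ((ModExtZero.resP O U).map h0) ≫ _ = 0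
      rw [hz0, Functor.map_zero, zero_comp]
    change (ModSite.restr O U).map (((shfAdj O).homEquiv _ _).symm h0) = 0
    rw [(shfAdj O).homEquiv_counit, Functor.map_comp, e0, zero_comp]
  let p := ((shfAdj O).unit.app (ModFlat.freeP (O := O) V)).app (op V) (ModuleCat.freeMk (𝟙 V))
  refine ⟨app O (sectLift O U h hh) V p, ?_⟩
  rw [← app_comp, sectLift_ι]
  refine Eq.trans ?_ (res_id z)
  refine (congrArg (fun k => k.app (op V) (ModuleCat.freeMk (𝟙 V))) (((shfAdj O).homEquiv _ _).apply_symm_apply h0)).trans ?_
  exact ModuleCat.freeDesc_apply _ _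
where
  res_id (z : sec O I V) : res O I (𝟙 V) z = z :=
    ConcreteCategory.congr_hom (((tS O).obj I).obj.map_id (op V)) z

theorem epi_sectOn_map_g {S : ShortComplex (ModSite.Mod O)} (hS : S.ShortExact)
    (hM : CohCx.IsTotallyAcyclic (ModSite.toAb S.X₁)) : Epi ((ModSite.sectOn O U).map S.g) := by
  apply Functor.epi_of_epi_map (tS O)
  rw [← Sheaf.isLocallySurjective_iff_epi' AddCommGrpCat.{u}]
  refine ⟨fun {V} y => ?_⟩
  let q : sec O S.X₃ V := app O ((ModSite.sectOnι O U).app S.X₃) V y
  have := hS.epi_g
  obtain ⟨T, hT, hq⟩ := exists_cover_lift O S.g q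
  refine J.superset_covering ?_ hT
  intro V' g hg
  obtain ⟨x, hx⟩ := hq g hg
  have := hS.mono_f
  have := SheafCoh.preservesHomology_toSheaf (ModSite.ringSh O)
  let ev (W : C) : Sheaf J AddCommGrpCat.{u} ⥤ AddCommGrpCat.{u} :=
    sheafToPresheaf J AddCommGrpCat.{u} ⋙ (evaluation _ _).obj (op W)
  have hmem : ∀ {W : C} (k : W ⟶ V'), (W ⟶ U) → ∃ w, app O S.f W w = res O S.X₂ k x := fun {W} k φ => by
    have h0 : app O S.g W (res O S.X₂ k x) = 0 := by
      rw [← res_app, hx, res_res]
      change res O S.X₃ (k ≫ g) (app O ((ModSite.sectOnι O U).app S.X₃) V y) = 0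
      rw [res_app, (isNullOn_iff O U _).1 (isNullOn_sectOn O U S.X₃) φ (res O _ (k ≫ g) y)]
      exact map_zero _
    have : PreservesLimitsOfSize.{0, 0} (tS O) :=
      (SiteDer.tensShAdj (ModSite.ringSh O)).rightAdjoint_preservesLimits
    have hex := (ShortComplex.ab_exact_iff _).1
      (hS.exact.map_of_mono_of_preservesKernel (tS O ⋙ ev W) inferInstance inferInstance)
    exact hex _ h0
  have hinj : ∀ W, Function.Injective (app O S.f W) := fun W => by
    have : PreservesLimitsOfSize.{0, 0} (tS O) :=
      (SiteDer.tensShAdj (ModSite.ringSh O)).rightAdjoint_preservesLimits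
    have : Mono ((tS O).map S.f) := Functor.map_mono _ _
    have : Mono ((sheafToPresheaf J AddCommGrpCat.{u}).map ((tS O).map S.f)) := Functor.map_mono _ _
    exact (AddCommGrpCat.mono_iff_injective _).1
      (inferInstanceAs (Mono (((sheafToPresheaf J AddCommGrpCat.{u}).map ((tS O).map S.f)).app (op W))))
  choose w hw using fun (W : C) (k : (liveSieve U V').functor.obj (op W)) => hmem k.1 k.2.some
  obtain ⟨m, hm⟩ := exists_extension ((tS O).obj S.X₁) hM (liveSieve U V')
    { app := fun W => ↾fun k => w W.unop k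
      naturality := fun W W' f => by
        ext k
        refine hinj W'.unop ?_
        refine (hw W'.unop _).trans ?_
        refine Eq.trans ?_ (res_app O S.f f.unop (w W.unop k))
        rw [hw W.unop k, res_res]
        rfl }
  obtain ⟨z, hz⟩ := exists_sect_of_vanish O U S.X₂ (x - app O S.f V' m) (fun W k φ => by
    rw [map_sub, res_app, sub_eq_zero]
    exact ((congrArg (app O S.f W) (hm k ⟨φ⟩)).trans (hw W ⟨k, ⟨φ⟩⟩)).symm)
  refine ⟨z, ?_⟩
  have : Function.Injective (app O ((ModSite.sectOnι O U).app S.X₃) V') := by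
    have : PreservesLimitsOfSize.{0, 0} (tS O) :=
      (SiteDer.tensShAdj (ModSite.ringSh O)).rightAdjoint_preservesLimits
    have : Mono ((tS O).map ((ModSite.sectOnι O U).app S.X₃)) := Functor.map_mono _ _
    exact (AddCommGrpCat.mono_iff_injective _).1
      (inferInstanceAs (Mono (((sheafToPresheaf J AddCommGrpCat.{u}).map
        ((tS O).map ((ModSite.sectOnι O U).app S.X₃))).app (op V'))))
  refine this ?_
  change app O ((ModSite.sectOnι O U).app S.X₃) V' (app O ((ModSite.sectOn O U).map S.g) V' z) =
    app O ((ModSite.sectOnι O U).app S.X₃) V' (res O ((ModSite.sectOn O U).obj S.X₃) g y)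
  rw [← app_comp, show (ModSite.sectOn O U).map S.g ≫ (ModSite.sectOnι O U).app S.X₃ =
      (ModSite.sectOnι O U).app S.X₂ ≫ S.g from (ModSite.sectOnι O U).naturality S.g]
  refine (app_comp O _ _ V' z).trans ?_
  rw [hz, map_sub, ← app_comp, S.zero, ← res_app, hx]
  simp [app, q]

theorem isZero_HZsh_of_totallyAcyclic [HasInjectiveResolutions (ModSite.Mod O)] (M : ModSite.Mod O)
    (hM : CohCx.IsTotallyAcyclic (ModSite.toAb M)) (n : ℕ) : IsZero ((ModSite.HZsh O U (n + 1)).obj M) := by
  refine DimShift.isZero_rightDerived_of_class (ModSite.sectOn O U)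
    (fun F => CohCx.IsTotallyAcyclic (ModSite.toAb F)) ?_ ?_ M hM n
  · intro F F' e h K p
    have := h K p
    exact @Equiv.subsingleton _ _ (((Abelian.extFunctor.{u} (p + 1)).obj (op _)).mapIso
      ((tS O).mapIso e)).addCommGroupIsoToAddEquiv.symm.toEquiv this
  · intro S hS hinj h1
    have := SheafCoh.preservesHomology_toSheaf (ModSite.ringSh O)
    have := SheafCoh.preservesEpimorphisms_toSheaf (ModSite.ringSh O)
    have : PreservesLimitsOfSize.{0, 0} (tS O) :=
      (SiteDer.tensShAdj (ModSite.ringSh O)).rightAdjoint_preservesLimits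
    have := hS.mono_f
    have := hS.epi_g
    have hS' : (S.map (tS O)).ShortExact :=
      { exact := hS.exact.map (tS O)
        mono_f := Functor.map_mono (tS O) S.f
        epi_g := Functor.map_epi (tS O) S.g }
    refine ⟨fun K p => subsingleton_of_forall_eq 0 fun x => ?_, ?_⟩
    · have h₂ := isTotallyAcyclic_of_injective_module (ModSite.ringSh O) S.X₂ K p
      have h₁ := h1 K (p + 1)
      obtain ⟨y, hy⟩ := Ext.covariant_sequence_exact₃ _ hS' x rfl (@Subsingleton.elim _ h₁ _ _)
      rw [← hy]
      rw [@Subsingleton.elim _ h₂ y 0]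
      exact Ext.zero_comp _ _ _ _ _
    · have := preservesFiniteLimits_sectOn O U
      exact { exact := hS.exact.map_of_mono_of_preservesKernel _ inferInstance inferInstance
              mono_f := inferInstanceAs (Mono ((ModSite.sectOn O U).map S.f))
              epi_g := epi_sectOn_map_g O U hS h1 }

omit [ModSite.HasPushOver O U] in
theorem subsingleton_ext_quotZ (F : Sheaf J AddCommGrpCat.{u}) (hF : CohCx.IsTotallyAcyclic F) (p : ℕ) :
    Subsingleton (Ext.{u} (ToposFin.quotZ (ToposFin.eps J U)) F (p + 1)) := by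
  let t := terminal.from (ToposFin.eps J U)
  let L := ToposFin.freeAb J
  let ι := image.ι t
  let π := factorThruImage t
  have : Mono (L.map ι) := by
    have : Mono ι.hom := inferInstanceAs (Mono ((sheafToPresheaf J (Type u)).map ι))
    have : Mono (Functor.whiskerRight ι.hom AddCommGrpCat.free.{u}) := by
      have : ∀ V, Mono ((Functor.whiskerRight ι.hom AddCommGrpCat.free.{u}).app V) := fun V =>
        inferInstanceAs (Mono (AddCommGrpCat.free.{u}.map (ι.hom.app V)))
      exact NatTrans.mono_of_mono_app _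
    exact inferInstanceAs (Mono ((presheafToSheaf J AddCommGrpCat.{u}).map
      (Functor.whiskerRight ι.hom AddCommGrpCat.free.{u})))
  have : L.IsLeftAdjoint := (Sheaf.adjunction J AddCommGrpCat.adj.{u}).isLeftAdjoint
  have : Epi π := inferInstance
  have : Epi (L.map π) := L.map_epi π
  let e : cokernel (L.map ι) ≅ ToposFin.quotZ (ToposFin.eps J U) :=
    (cokernelEpiComp (L.map π) (L.map ι)).symm ≪≫
      cokernelIsoOfEq ((L.map_comp π ι).symm.trans (congrArg L.map (image.fac t)))
  let S : ShortComplex (Sheaf J AddCommGrpCat.{u}) :=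
    ShortComplex.mk (L.map ι) (cokernel.π (L.map ι)) (cokernel.condition _)
  have hS : S.ShortExact := { exact := ShortComplex.exact_of_g_is_cokernel _ (cokernelIsCokernel _) }
  suffices Subsingleton (Ext.{u} S.X₃ F (p + 1)) from
    (SheafCoh.extPrecompIso e.symm F (p + 1)).symm.toEquiv.subsingleton
  refine subsingleton_of_forall_eq 0 fun x => ?_
  have : Subsingleton (Ext.{u} S.X₂ F (p + 1)) := hF _ p
  obtain ⟨y, hy⟩ := Ext.contravariant_sequence_exact₃ hS F x (Subsingleton.elim _ _) (n₀ := p) (by omega)
  rw [← hy]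
  cases p with
  | zero =>
    obtain ⟨φ, rfl⟩ := (Ext.mk₀_bijective _ _).2 y
    obtain ⟨χ, hχ⟩ := CechFree.surjective_HK0_of_totallyAcyclic F hF ι φ
    rw [show φ = S.f ≫ χ from hχ.symm, ← Ext.mk₀_comp_mk₀, hS.extClass_comp_assoc]
  | succ q =>
    have : Subsingleton (Ext.{u} S.X₁ F (q + 1)) := hF _ q
    rw [Subsingleton.elim y 0, Ext.comp_zero]

end GrothLib.ModSupp25
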