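import Groth.Agent.Lib.ModSupp25.Subterminal
import Groth.Agent.Lib.ModSupp25.Flasque

/-! # Sections with supports and localisation -/

set_option autoImplicit false
universe u

open CategoryTheory CategoryTheory.Limits Opposite GrothLib.SheafCoh

set_option maxHeartbeats 400000

namespace GrothLib.ModSupp25

variable {C : Type u} [SmallCategory C] {J : GrothendieckTopology C} (O : Sheaf J CommRingCat.{u})

section

variable [HasBinaryProducts C] (U X : C)

/-- `U × X` over `X`. -/
noncomputable abbrev prodOver : Over X := Over.mk (Limits.prod.snd : U ⨯ X ⟶ X)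

theorem isNullOn_restr_sectOn (M : ModSite.Mod O) :
    ModSite.IsNullOn (O.over X) (prodOver U X) ((ModSite.restr O X).obj ((ModSite.sectOn O U).obj M)) :=
  (isNullOn_iff (O.over X) (prodOver U X) _).2 fun V g x =>
    (isNullOn_iff O U _).1 (isNullOn_sectOn O U M) (g.left ≫ Limits.prod.fst) x

variable [ModSite.HasPushOver (O.over X) (prodOver U X)]

/-- `Γ_Z(M)|X → Γ_{Z/X}(M|X)`. -/
noncomputable def sectRestrMap (M : ModSite.Mod O) :
    (ModSite.restr O X).obj ((ModSite.sectOn O U).obj M) ⟶
      (ModSite.sectOn (O.over X) (prodOver U X)).obj ((ModSite.restr O X).obj M) :=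
  sectLift (O.over X) (prodOver U X) ((ModSite.restr O X).map ((ModSite.sectOnι O U).app M))
    ((isNullOn_restr_sectOn O U X M).eq_of_src _ _)

@[reassoc]
theorem sectRestrMap_ι (M : ModSite.Mod O) :
    sectRestrMap O U X M ≫ (ModSite.sectOnι (O.over X) (prodOver U X)).app ((ModSite.restr O X).obj M) =
      (ModSite.restr O X).map ((ModSite.sectOnι O U).app M) :=
  sectLift_ι _ _ _ _

omit [HasBinaryProducts C] [ModSite.HasPushOver (O.over X) (prodOver U X)] in
theorem app_injective {M N : ModSite.Mod O} (f : M ⟶ N) [Mono f] (V : C) : Function.Injective (app O f V) := by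
  have : PreservesLimitsOfSize.{0, 0} (tS O) :=
    (SiteDer.tensShAdj (ModSite.ringSh O)).rightAdjoint_preservesLimits
  have : Mono ((tS O).map f) := Functor.map_mono _ _
  exact (AddCommGrpCat.mono_iff_injective _).1
    (inferInstanceAs (Mono (((sheafToPresheaf J AddCommGrpCat.{u}).map ((tS O).map f)).app (op V))))

theorem isIso_sectRestrMap (M : ModSite.Mod O) : IsIso (sectRestrMap O U X M) := by
  let ι := (ModSite.sectOnι O U).app M
  let ι' := (ModSite.sectOnι (O.over X) (prodOver U X)).app ((ModSite.restr O X).obj M)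
  have hb : ∀ P : Over X, Function.Bijective (app (O.over X) (sectRestrMap O U X M) P) := fun P => by
    have h : ∀ x, app (O.over X) ι' P (app (O.over X) (sectRestrMap O U X M) P x) = app O ι P.left x := fun x => by
      rw [← app_comp, sectRestrMap_ι]
      rfl
    refine ⟨fun a b hab => app_injective O ι P.left (((h a).symm.trans (congrArg _ hab)).trans (h b)), fun y => ?_⟩
    obtain ⟨x, hx⟩ := exists_sect_of_vanish O U M (V := P.left) (app (O.over X) ι' P y) (fun V' g φ => by
      let g' : Over.mk (g ≫ P.hom) ⟶ P := Over.homMk g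
      let φ' : Over.mk (g ≫ P.hom) ⟶ prodOver U X :=
        Over.homMk (prod.lift φ (g ≫ P.hom)) (prod.lift_snd _ _)
      refine (res_app (O.over X) ι' g' y).trans ?_
      rw [(isNullOn_iff (O.over X) (prodOver U X) _).1 (isNullOn_sectOn (O.over X) (prodOver U X) _) φ'
        (res (O.over X) _ g' y)]
      exact map_zero _)
    exact ⟨x, app_injective (O.over X) ι' P ((h x).trans hx)⟩
  have : IsIso ((tS (O.over X)).map (sectRestrMap O U X M)) := by
    have : IsIso ((sheafToPresheaf (J.over X) AddCommGrpCat.{u}).map ((tS (O.over X)).map (sectRestrMap O U X M))) := by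
      refine @NatIso.isIso_of_isIso_app _ _ _ _ _ _ _ fun P => ?_
      rw [ConcreteCategory.isIso_iff_bijective]
      exact hb P.unop
    exact isIso_of_reflects_iso _ (sheafToPresheaf (J.over X) AddCommGrpCat.{u})
  exact isIso_of_reflects_iso _ (tS (O.over X))

/-- `Γ_Z(-)|X = Γ_{Z/X}(-|X)`. -/
noncomputable def sectRestrIso :
    ModSite.sectOn O U ⋙ ModSite.restr O X ≅
      ModSite.restr O X ⋙ ModSite.sectOn (O.over X) (prodOver U X) :=
  NatIso.ofComponents (fun M => haveI := isIso_sectRestrMap O U X M; asIso (sectRestrMap O U X M))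
    (fun {M N} f => by
      apply (cancel_mono ((ModSite.sectOnι (O.over X) (prodOver U X)).app ((ModSite.restr O X).obj N))).1
      simp only [Functor.comp_map, asIso_hom, Category.assoc, sectRestrMap_ι]
      erw [(ModSite.sectOnι (O.over X) (prodOver U X)).naturality ((ModSite.restr O X).map f)]
      rw [sectRestrMap_ι_assoc]
      simp only [Functor.id_map, ← Functor.map_comp]
      exact congrArg (ModSite.restr O X).map ((ModSite.sectOnι O U).naturality f))

/-- `ℋ^q_Z(-)|X = ℋ^q_{Z/X}(-|X)`. -/
noncomputable def hzshRestrIso [HasInjectiveResolutions (ModSite.Mod O)]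
    [HasInjectiveResolutions (ModSite.Mod (O.over X))] (q : ℕ) :
    ModSite.HZsh O U q ⋙ ModSite.restr O X ≅
      ModSite.restr O X ⋙ ModSite.HZsh (O.over X) (prodOver U X) q :=
  haveI := preservesFiniteLimits_restr O X
  haveI := preservesFiniteColimits_restr O X
  haveI : (ModSite.restr O X).PreservesHomology := Functor.preservesHomologyOfExact _
  rightDerivedPostIso (ModSite.sectOn O U) (ModSite.restr O X) q ≪≫
    SheafCoh.rightDerivedCongr (sectRestrIso O U X) q ≪≫
    (LocZ.rightDerivedPreExactIso (ModSite.restr O X)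
      (fun I hI => haveI := hI; injective_restr O X I) (ModSite.sectOn (O.over X) (prodOver U X)) q).symm

/-- `j_!(G/G_W) = (j_! G)/(j_! G)_U`. -/
noncomputable def extZeroQuotIso :
    ModSite.extZero O X ⋙ ModSite.quotOn O U ≅
      ModSite.quotOn (O.over X) (prodOver U X) ⋙ ModSite.extZero O X :=
  ((((ModSite.extZeroAdj O X).comp (quotSectAdj O U))).ofNatIsoRight (sectRestrIso O U X)).leftAdjointUniq
    ((quotSectAdj (O.over X) (prodOver U X)).comp (ModSite.extZeroAdj O X))

end

theorem hasBinaryProducts_over [HasBinaryProducts C] (V : C) (hV : ∀ X : C, Subsingleton (X ⟶ V)) :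
    HasBinaryProducts (Over V) :=
  have : ∀ A B : Over V, HasLimit (pair A B) := fun A B => HasLimit.mk
    { cone := BinaryFan.mk (P := Over.mk (Limits.prod.fst ≫ A.hom : A.left ⨯ B.left ⟶ V))
        (Over.homMk Limits.prod.fst) (Over.homMk Limits.prod.snd ((hV _).elim _ _))
      isLimit := BinaryFan.isLimitMk
        (fun s => Over.homMk (prod.lift s.fst.left s.snd.left) ((hV _).elim _ _))
        (fun s => Over.OverMorphism.ext (prod.lift_fst _ _))
        (fun s => Over.OverMorphism.ext (prod.lift_snd _ _))
        (fun s m h₁ h₂ => Over.OverMorphism.ext (prod.hom_ext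
          ((congrArg (fun k => k.left) h₁).trans (prod.lift_fst _ _).symm)
          ((congrArg (fun k => k.left) h₂).trans (prod.lift_snd _ _).symm))) }
  hasBinaryProducts_of_hasLimit_pair _

section Cover

variable (U V : C) (hUV : J.CoversTop (fun b : Bool => cond b U V))

omit [SmallCategory C] in
theorem isNullOn_of_epi {C : Type u} [SmallCategory C] {J : GrothendieckTopology C}
    (O : Sheaf J CommRingCat.{u}) (U : C) {M N : ModSite.Mod O} (f : M ⟶ N) [Epi f]
    (hM : ModSite.IsNullOn O U M) : ModSite.IsNullOn O U N :=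
  have := preservesEpi_restr O U
  IsZero.of_epi ((ModSite.restr O U).map f) hM

include hUV in
theorem isZero_of_isNullOn {Q : ModSite.Mod O} (hU : ModSite.IsNullOn O U Q) (hV : ModSite.IsNullOn O V Q) :
    IsZero Q := by
  rw [IsZero.iff_id_eq_zero]
  apply (tS O).map_injective
  rw [Functor.map_zero]
  ext W x
  change app O (𝟙 Q) W.unop x = 0
  refine eq_zero_of_cover O _ _ _ (hUV W.unop) fun V' g hg => ?_
  obtain ⟨b, ⟨φ⟩⟩ := hg
  cases b
  · exact (isNullOn_iff O V Q).1 hV φ _
  · exact (isNullOn_iff O U Q).1 hU φ _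

variable [ModSite.HasPushOver O U]

include hUV in
theorem isIso_quot_counit (hsub : ∀ X : C, Subsingleton (X ⟶ V)) (M : ModSite.Mod O) :
    IsIso ((ModSite.quotOn O U).map ((ModSite.extZeroAdj O V).counit.app M)) := by
  let c := (ModSite.extZeroAdj O V).counit.app M
  have := mono_counit O V hsub M
  have := preservesMono_quotOn O U
  have : Mono ((ModSite.quotOn O U).map c) := Functor.map_mono _ _
  have : (ModSite.quotOn O U).IsLeftAdjoint := (quotSectAdj O U).isLeftAdjoint
  have : (ModSite.quotOn O U).PreservesEpimorphisms := inferInstance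
  let e : (ModSite.quotOn O U).obj (cokernel c) ≅ cokernel ((ModSite.quotOn O U).map c) :=
    PreservesCokernel.iso (ModSite.quotOn O U) c
  have hQ : IsZero (cokernel ((ModSite.quotOn O U).map c)) := by
    refine IsZero.of_iso (isZero_of_isNullOn O U V hUV (isNullOn_quotOn O U _) ?_) e.symm
    exact isNullOn_of_epi O V ((ModSite.quotOnπ O U).app (cokernel c)) (isNullOn_quotOn O V M)
  have : Epi ((ModSite.quotOn O U).map c) := Preadditive.epi_of_isZero_cokernel _ hQ
  exact isIso_of_mono_of_epi _

end Cover

end GrothLib.ModSupp25
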